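import Groth.Agent.EtRam26.Abh

/-! The characterisation of tameness by roots of a uniformizer. -/

set_option autoImplicit false
set_option linter.style.haveILetI false

universe u

open IsLocalRing Polynomial

namespace Groth.Agent.EtRam26

variable {A K L : Type u} [CommRing A] [IsDomain A] [IsDiscreteValuationRing A] [Field K]
  [Algebra A K] [IsFractionRing A K] [Field L] [Algebra K L] [Algebra A L] [IsScalarTower A K L]
  [FiniteDimensional K L] [Algebra.IsSeparable K L]

include K in
theorem isTamelyRamified_of_unramified_root {π : A} (hπ : maximalIdeal A = Ideal.span {π}) {e : ℕ}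
    (he : 0 < e) (he' : (e : ResidueField A) ≠ 0) {L' : Type u} [Field L'] [Algebra K L']
    [FiniteDimensional K L'] (σ : L →ₐ[K] L')
    (φ : AdjoinRoot (X ^ e - C π : A[X]) →+* L')
    (hφ : φ.comp (AdjoinRoot.of _) = (algebraMap K L').comp (algebraMap A K))
    (hunr : ∀ [IsLocalRing (AdjoinRoot (X ^ e - C π : A[X]))],
      EtRam.IsUnramifiedExt (AdjoinRoot (X ^ e - C π : A[X])) φ) :
    EtRam.IsTamelyRamified A (algebraMap A L) := by
  obtain ⟨hdom, hdvr, hmax, hof⟩ := eisenstein_root hπ he
  haveI := hdom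
  haveI := hdvr
  rw [isTamelyRamified_iff (algebraMap_injective' (K := K)) (dvr_of_dominates (K := K))]
  intro V hV
  haveI := dvr_of_dominates (K := K) V hV
  obtain ⟨W, rfl⟩ := exists_comap_eq σ.toRingHom V
  have hW := dominates_of_comap σ.toRingHom hV
  have hgL : σ.toRingHom.comp (algebraMap A L) = (algebraMap K L').comp (algebraMap A K) := by
    rw [IsScalarTower.algebraMap_eq A K L, ← RingHom.comp_assoc]
    exact congrArg (fun f => f.comp (algebraMap A K)) σ.comp_algebraMap
  have hW' : EtRam.Dominates A ((algebraMap K L').comp (algebraMap A K)) W := hgL ▸ hW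
  haveI := dvr_of_dominates_finite (A := A) (algebraMap K L') (by
    convert ‹FiniteDimensional K L'›
    exact Algebra.algebra_ext _ _ fun _ => rfl) W hW'
  haveI : IsLocalHom (AdjoinRoot.of (X ^ e - C π : A[X])) := hof.1
  haveI := isLocalHom_codRestrict hW'
  let z : L' := φ (AdjoinRoot.root _)
  have hmemW : ∀ t, φ t ∈ W := by
    haveI : Module.Finite A (AdjoinRoot (X ^ e - C π : A[X])) :=
      (monic_X_pow_sub_C π he.ne').finite_adjoinRoot
    exact Ram24.mem_of_isIntegral (B := A) φ W (fun a => by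
      rw [AdjoinRoot.algebraMap_eq, ← RingHom.comp_apply φ, hφ]; exact hW'.1 a)
  have hdom' : EtRam.Dominates (AdjoinRoot (X ^ e - C π : A[X])) φ W := by
    refine ⟨hmemW, fun t ht => ?_⟩
    rw [hmax, Ideal.mem_span_singleton] at ht
    obtain ⟨s, rfl⟩ := ht
    have h1 : W.valuation z < 1 := by
      by_contra! hle
      have h2 : W.valuation (z ^ e) < 1 := by
        rw [← map_pow, root_pow, ← RingHom.comp_apply φ, hφ]
        exact hW'.2 π (hπ ▸ Ideal.mem_span_singleton_self π)
      rw [map_pow] at h2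
      exact absurd h2 (not_lt.mpr (one_le_pow₀ hle))
    rw [map_mul, map_mul]
    calc W.valuation z * W.valuation (φ s) ≤ W.valuation z * 1 := by
          gcongr
          exact (W.valuation_le_one_iff _).mpr (hmemW s)
      _ = W.valuation z := mul_one _
      _ < 1 := h1
  have hu := (isUnramifiedExt_iff.mp hunr) W hdom'
  have htot : RamHom ((σ.toRingHom.comp (algebraMap A L)).codRestrict W hW.1) e := by
    have : (σ.toRingHom.comp (algebraMap A L)).codRestrict W hW.1 =
        (φ.codRestrict W hdom'.1).comp (AdjoinRoot.of _) :=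
      RingHom.ext fun a => Subtype.ext ((RingHom.congr_fun hgL a).trans (RingHom.congr_fun hφ a).symm)
    rw [this]
    have h := RamHom.comp hof hu
    rwa [one_mul] at h
  rw [codRestrict_comp σ.toRingHom W hV hW] at htot
  haveI := isLocalHom_codRestrict hV
  have hinj : Function.Injective ((algebraMap A L).codRestrict (W.comap σ.toRingHom) hV.1) :=
    fun s t hst => algebraMap_injective' (K := K) (congrArg Subtype.val hst)
  obtain ⟨m, b, -, hmb, hra, -⟩ := RamHom.of_comp htot
    ((Ideal.map_eq_bot_iff_of_injective hinj).not.mpr (IsDiscreteValuationRing.not_a_field A))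
    (inclOfComap_injective σ.toRingHom W)
  refine ⟨m, Nat.pos_of_ne_zero fun h0 => he.ne' (by rw [hmb, h0, mul_zero]), hra,
    fun h0 => he' ?_⟩
  rw [hmb, Nat.cast_mul, h0, mul_zero]

include K in
theorem exists_index_forall {π : A} (hπ : maximalIdeal A = Ideal.span {π})
    (h : EtRam.IsTamelyRamified A (algebraMap A L)) :
    ∃ e₀ : ℕ, 0 < e₀ ∧ (e₀ : ResidueField A) ≠ 0 ∧
      ∀ d : ℕ, 0 < d → (d : ResidueField A) ≠ 0 →
        ∃ (L' : Type u) (_ : Field L') (_ : Algebra K L')
          (_ : Algebra (AdjoinRoot (X ^ (d * e₀) - C π : A[X])) L') (_ : L →ₐ[K] L'),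
          FiniteDimensional K L' ∧ Algebra.IsSeparable K L' ∧
          (algebraMap (AdjoinRoot (X ^ (d * e₀) - C π : A[X])) L').comp (AdjoinRoot.of (X ^ (d * e₀) - C π)) =
            (algebraMap K L').comp (algebraMap A K) ∧
          ∀ [IsLocalRing (AdjoinRoot (X ^ (d * e₀) - C π : A[X]))],
            EtRam.IsUnramifiedExt (AdjoinRoot (X ^ (d * e₀) - C π : A[X]))
              (algebraMap (AdjoinRoot (X ^ (d * e₀) - C π : A[X])) L') := by
  obtain ⟨e₀, he₀, he₀', hdiv⟩ := exists_common_index (K := K) h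
  refine ⟨e₀, he₀, he₀', fun d hd hd' => ?_⟩
  obtain ⟨L', _, _, φ, σ, -, hfd, hsep, hφ, -, hunr⟩ :=
    exists_root_field (K := K) (L := L) hπ (Nat.mul_pos hd he₀)
      (by rw [Nat.cast_mul]; exact mul_ne_zero hd' he₀')
      fun V hV => by
        obtain ⟨m, hm, hdvd, hr, hne⟩ := hdiv V hV
        exact ⟨m, hm, hdvd.mul_left d, hr, hne⟩
  exact ⟨L', inferInstance, inferInstance, φ.toAlgebra, σ, hfd, hsep, hφ, @hunr⟩

end Groth.Agent.EtRam26
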