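import Groth.Agent.EtRam26.Hom
import Groth.Agent.Ram24.AdjoinDVR
import Mathlib.RingTheory.Unramified.LocalRing
import Mathlib.RingTheory.DedekindDomain.Dvr

/-!
Finite unramified algebras over a discrete valuation ring and unramified extensions.
-/

set_option autoImplicit false
set_option linter.style.haveILetI false

universe u

open IsLocalRing
open scoped TensorProduct

namespace Groth.Agent.EtRam26

theorem frac_of_gen {D : Type*} [CommRing D] {M : Type u} [Field M] (ψ : D →+* M) (s : Set M)
    (hs : ∀ y ∈ s, ∃ a b : D, ψ b ≠ 0 ∧ y * ψ b = ψ a) (hgen : Subfield.closure s = ⊤) (y : M) :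
    ∃ a b : D, ψ b ≠ 0 ∧ y * ψ b = ψ a := by
  obtain ⟨⟨_, a, rfl⟩, ⟨_, b, rfl⟩, hb, hab⟩ := Ram24.exists_frac_of_closure ψ.range.subtype
    Subtype.val_injective s (fun z hz => by
      obtain ⟨a, b, hb, hab⟩ := hs z hz
      exact ⟨⟨ψ a, a, rfl⟩, ⟨ψ b, b, rfl⟩, hb, hab⟩) hgen y
  exact ⟨a, b, hb, hab⟩

section Unramified

variable {A : Type u} [CommRing A] [IsDomain A] [IsDiscreteValuationRing A]

/-- A finite unramified algebra gives unramified valuation rings in its residue fields. -/
theorem ramHom_one_of_formallyUnramified {D : Type u} [CommRing D] [Algebra A D] [Module.Finite A D]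
    [Algebra.FormallyUnramified A D] {M : Type u} [Field M] (ψ : D →+* M) (g : A →+* M)
    (hg : ψ.comp (algebraMap A D) = g) (hinj : Function.Injective g)
    (hfrac : ∀ y : M, ∃ a b : D, ψ b ≠ 0 ∧ y * ψ b = ψ a)
    (W : ValuationSubring M) (h : EtRam.Dominates A g W) :
    IsDiscreteValuationRing W ∧ RamHom (g.codRestrict W h.1) 1 := by
  letI : Algebra A M := g.toAlgebra
  let ψ' : D →ₐ[A] M := { ψ with commutes' := RingHom.congr_fun hg }
  let D' := ψ'.range
  haveI : Module.Finite A D' :=
    Module.Finite.of_surjective ψ'.rangeRestrict.toLinearMap ψ'.rangeRestrict_surjective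
  haveI : Algebra.FormallyUnramified A D' :=
    Algebra.FormallyUnramified.of_surjective ψ'.rangeRestrict ψ'.rangeRestrict_surjective
  haveI : IsNoetherianRing D' := IsNoetherianRing.of_finite A D'
  haveI : Algebra.EssFiniteType A D' := inferInstance
  have hmem : ∀ d : D', (d : M) ∈ W := fun d =>
    Ram24.mem_of_isIntegral (B := A) D'.val.toRingHom W (fun a => h.1 a) d
  let ρ : D' →+* W := D'.val.toRingHom.codRestrict W hmem
  haveI hloc0 := isLocalHom_codRestrict h
  let n : Ideal D' := (maximalIdeal W).comap ρ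
  haveI : n.IsPrime := Ideal.comap_isPrime ρ _
  let T := Localization.AtPrime n
  have hu : ∀ s : n.primeCompl, IsUnit (ρ s) := fun s => notMem_maximalIdeal.mp s.2
  let σ : T →+* W := IsLocalization.lift hu
  haveI hσloc : IsLocalHom σ := by
    refine ⟨fun t ht => ?_⟩
    obtain ⟨⟨x, s⟩, rfl⟩ := IsLocalization.mk'_surjective n.primeCompl t
    have hx : IsUnit (ρ x) := by
      have h1 := congrArg σ (IsLocalization.mk'_spec T x s)
      rw [map_mul, IsLocalization.lift_eq, IsLocalization.lift_eq] at h1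
      exact h1 ▸ ht.mul (hu s)
    exact IsLocalization.AtPrime.isUnit_mk'_iff T n x s |>.mpr (notMem_maximalIdeal.mpr hx)
  have hσinj : Function.Injective σ := by
    refine (IsLocalization.lift_injective_iff hu).mpr fun x y => ?_
    constructor
    · intro hxy
      obtain ⟨c, hc⟩ := (IsLocalization.eq_iff_exists n.primeCompl T).mp hxy
      exact (hu c).mul_left_cancel (by rw [← map_mul, ← map_mul, hc])
    · intro hxy
      exact congrArg _ (Subtype.ext (congrArg Subtype.val hxy :))
  haveI : Algebra.FormallyUnramified A T := Algebra.FormallyUnramified.comp A D' T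
  haveI : Algebra.EssFiniteType A T := Algebra.EssFiniteType.comp A D' T
  have hcomp : σ.comp (algebraMap A T) = g.codRestrict W h.1 := by
    ext a
    rw [RingHom.comp_apply, IsScalarTower.algebraMap_apply A D' T]
    exact congrArg Subtype.val (IsLocalization.lift_eq hu (algebraMap A D' a))
  haveI : IsLocalHom (algebraMap A T) := ⟨fun a ha => isUnit_of_map_unit (g.codRestrict W h.1) a
    (by rw [← hcomp]; exact ha.map σ)⟩
  obtain ⟨hsep, hmap⟩ :=
    (Algebra.FormallyUnramified.iff_map_maximalIdeal_eq (R := A) (S := T)).mp inferInstance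
  obtain ⟨ϖ, hϖ⟩ := IsDiscreteValuationRing.exists_irreducible A
  have hmax : maximalIdeal T = Ideal.span {algebraMap A T ϖ} := by
    rw [← hmap, (IsDiscreteValuationRing.irreducible_iff_uniformizer ϖ).mp hϖ, Ideal.map_span,
      Set.image_singleton]
  have hne : algebraMap A T ϖ ≠ 0 := fun h0 => hϖ.ne_zero (hinj (by
    have := congrArg σ h0
    rw [← RingHom.comp_apply, hcomp, map_zero] at this
    simpa using congrArg Subtype.val this))
  haveI : IsDomain T := IsLocalization.isDomain_localization n.primeCompl_le_nonZeroDivisors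
  haveI : IsNoetherianRing T := IsLocalization.isNoetherianRing n.primeCompl T inferInstance
  obtain ⟨hT, -⟩ := Ram24.dvr_of_unique (D := T) _ hne fun N hN =>
    (IsLocalRing.eq_maximalIdeal hN).trans hmax
  haveI := hT
  have hsurj : Function.Surjective σ := fun w => by
    have hfrac' : ∀ y : M, ∃ a b : T,
        (W.subtype.comp σ) b ≠ 0 ∧ y * (W.subtype.comp σ) b = (W.subtype.comp σ) a := fun y => by
      obtain ⟨a, b, hb, hab⟩ := hfrac y
      have hσ : ∀ d : D, (W.subtype.comp σ) (algebraMap D' T (ψ'.rangeRestrict d)) = ψ d :=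
        fun d => congrArg Subtype.val (IsLocalization.lift_eq hu (ψ'.rangeRestrict d))
      exact ⟨algebraMap D' T (ψ'.rangeRestrict a), algebraMap D' T (ψ'.rangeRestrict b),
        by rw [hσ]; exact hb, by rw [hσ, hσ]; exact hab⟩
    obtain ⟨t, ht⟩ := (Ram24.mem_iff_mem_range (W.subtype.comp σ) hfrac' W (fun t => (σ t).2)
      (fun t ht => (W.valuation_lt_one_iff (σ t)).mp (map_nonunit σ t ht)) w).mp w.2
    exact ⟨t, Subtype.ext ht⟩
  let e : T ≃+* W := RingEquiv.ofBijective σ ⟨hσinj, hsurj⟩
  refine ⟨IsDiscreteValuationRing.RingEquivClass.isDiscreteValuationRing e, ?_⟩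
  rw [← hcomp]
  exact RamHom.comp (b := 1) (a := 1)
    ⟨inferInstance, sepHom_map_iff.mpr hsep, by rw [pow_one]; exact hmap⟩ (ramHom_equiv e)

/-- An unramified extension comes from an unramified finite algebra. -/
theorem formallyUnramified_of_forall {D : Type u} [CommRing D] [IsDomain D] [IsDedekindDomain D]
    [Algebra A D] [Module.Finite A D] {L : Type u} [Field L] (ψ : D →+* L) (g : A →+* L)
    (hg : ψ.comp (algebraMap A D) = g) (hψ : Function.Injective ψ) (hinj : Function.Injective g)
    (hfrac : ∀ y : L, ∃ a b : D, ψ b ≠ 0 ∧ y * ψ b = ψ a)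
    (hV : ∀ (V : ValuationSubring L) (h : EtRam.Dominates A g V),
      RamHom (g.codRestrict V h.1) 1) :
    Algebra.FormallyUnramified A D := by
  rw [Algebra.formallyUnramified_iff_forall]
  intro q
  suffices key : ∀ (m : Ideal D) [m.IsMaximal], Algebra.IsUnramifiedAt A m by
    obtain ⟨m, hm, hqm⟩ := q.asIdeal.exists_le_maximal q.2.ne_top
    haveI := hm
    by_contra hq
    have h1 : q ∈ Module.support D (Ω[D⁄A]) := by
      have : q ∉ Algebra.unramifiedLocus A D := hq
      rwa [Algebra.unramifiedLocus_eq_compl_support, Set.notMem_compl_iff] at this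
    have h2 : (⟨m, inferInstance⟩ : PrimeSpectrum D) ∈ Module.support D (Ω[D⁄A]) :=
      Module.mem_support_mono hqm h1
    have h3 : (⟨m, inferInstance⟩ : PrimeSpectrum D) ∈ Algebra.unramifiedLocus A D := key m
    rw [Algebra.unramifiedLocus_eq_compl_support] at h3
    exact h3 h2
  intro m _
  have hlo : m.comap (algebraMap A D) = maximalIdeal A :=
    IsLocalRing.eq_maximalIdeal (Ideal.isMaximal_comap_of_isIntegral_of_isMaximal m)
  have hm0 : m ≠ ⊥ := fun h0 => by
    have hi : Function.Injective (algebraMap A D) :=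
      Function.Injective.of_comp (f := ψ) (by rw [← RingHom.coe_comp, hg]; exact hinj)
    rw [h0, ← RingHom.ker_eq_comap_bot, (RingHom.injective_iff_ker_eq_bot _).mp hi] at hlo
    exact IsDiscreteValuationRing.not_a_field A hlo.symm
  let T := Localization.AtPrime m
  haveI : IsDiscreteValuationRing T :=
    IsLocalization.AtPrime.isDiscreteValuationRing_of_dedekind_domain D hm0 T
  have hu : ∀ s : m.primeCompl, IsUnit (ψ s) := fun s => IsUnit.mk0 _ fun h0 =>
    s.2 (by rw [(map_eq_zero_iff ψ hψ).mp h0]; exact m.zero_mem)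
  let φ : T →+* L := IsLocalization.lift hu
  have hφ : ∀ d, φ (algebraMap D T d) = ψ d := IsLocalization.lift_eq hu
  have hφinj : Function.Injective φ := by
    refine (IsLocalization.lift_injective_iff hu).mpr fun x y =>
      ⟨fun hxy => ?_, fun hxy => congrArg _ (hψ hxy)⟩
    exact congrArg ψ (IsLocalization.injective T m.primeCompl_le_nonZeroDivisors hxy)
  have hfrac' : ∀ y : L, ∃ a b : T, φ b ≠ 0 ∧ y * φ b = φ a := fun y => by
    obtain ⟨a, b, hb, hab⟩ := hfrac y
    exact ⟨algebraMap D T a, algebraMap D T b, by rw [hφ]; exact hb, by rw [hφ, hφ]; exact hab⟩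
  let V := Ram24.rangeVS φ hfrac'
  let e : T ≃+* V := RingEquiv.ofBijective (φ.codRestrict V fun t => ⟨t, rfl⟩)
    ⟨fun a b hab => hφinj (congrArg Subtype.val hab), fun ⟨_, t, ht⟩ => ⟨t, Subtype.ext ht⟩⟩
  have hloc : IsLocalHom (algebraMap A T) := by
    refine ((local_hom_TFAE _).out 0 2).mpr (Ideal.map_le_iff_le_comap.mpr fun a ha => ?_)
    rw [Ideal.mem_comap, IsScalarTower.algebraMap_apply A D T,
      IsLocalization.AtPrime.to_map_mem_maximal_iff T m, ← Ideal.mem_comap, hlo]
    exact ha
  have hgV : ∀ a, g a = (e (algebraMap A T a) : L) := fun a => by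
    rw [IsScalarTower.algebraMap_apply A D T]
    exact (RingHom.congr_fun hg a).symm.trans (hφ _).symm
  have h : EtRam.Dominates A g V := by
    refine ⟨fun a => hgV a ▸ (e _).2, fun a ha => ?_⟩
    rw [hgV, ← ValuationSubring.valuation_lt_one_iff]
    exact map_nonunit (e : T →+* V) _ (map_nonunit (algebraMap A T) a ha)
  have hcomp : algebraMap A T = (e.symm : V →+* T).comp (g.codRestrict V h.1) := by
    refine RingHom.ext fun a => (e.symm_apply_apply _).symm.trans (congrArg e.symm ?_)
    exact Subtype.ext (hgV a).symm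
  obtain ⟨_, hsep, hmap⟩ : RamHom (algebraMap A T) 1 := by
    rw [hcomp]
    exact RamHom.comp (b := 1) (a := 1) (hV V h) (ramHom_equiv e.symm)
  haveI := sepHom_map_iff.mp hsep
  haveI : Algebra.EssFiniteType A T := Algebra.EssFiniteType.comp A D T
  exact Algebra.FormallyUnramified.of_map_maximalIdeal (by rwa [pow_one] at hmap)

end Unramified

/-- Adjoining a simple root is unramified. -/
theorem formallyUnramified_adjoinRoot {A : Type u} [CommRing A] (f : Polynomial A)
    (hf : IsUnit (Polynomial.aeval (AdjoinRoot.root f) (Polynomial.derivative f))) :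
    Algebra.FormallyUnramified A (AdjoinRoot f) := by
  rw [Algebra.FormallyUnramified.iff_comp_injective]
  intro Q _ _ I hI f₁ f₂ he
  have hr : Ideal.Quotient.mk I (f₁ (AdjoinRoot.root f)) = Ideal.Quotient.mk I (f₂ (AdjoinRoot.root f)) :=
    DFunLike.congr_fun he (AdjoinRoot.root f)
  refine AdjoinRoot.algHom_ext ?_
  set x := f₁ (AdjoinRoot.root f) with hx
  set y := f₂ (AdjoinRoot.root f) with hy
  have hd : y - x ∈ I := Ideal.Quotient.eq.mp hr.symm
  have hsq : (y - x) ^ 2 = 0 := by
    have := Ideal.pow_mem_pow hd 2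
    rw [hI] at this
    exact (Submodule.mem_bot Q).mp this
  have h0 : ∀ φ : AdjoinRoot f →ₐ[A] Q,
      Polynomial.aeval (φ (AdjoinRoot.root f)) f = 0 := fun φ => by
    rw [Polynomial.aeval_algHom_apply, AdjoinRoot.aeval_eq, AdjoinRoot.mk_self, map_zero]
  have hexp : Polynomial.aeval (x + (y - x)) f =
      Polynomial.aeval x f + Polynomial.aeval x (Polynomial.derivative f) * (y - x) :=
    Polynomial.aeval_add_of_sq_eq_zero f x (y - x) hsq
  rw [add_sub_cancel, hy, h0, hx, h0, zero_add, Polynomial.aeval_algHom_apply] at hexp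
  exact (sub_eq_zero.mp ((hf.map f₁).mul_right_eq_zero.mp hexp.symm)).symm

section BaseChange

variable {A B : Type u} [CommRing A] [CommRing B] [IsDomain B] [IsDiscreteValuationRing B]

/-- Base change of an unramified algebra to a larger discrete valuation ring. -/
theorem ramHom_one_of_baseChange {D : Type u} [CommRing D] [Algebra A D] [Module.Finite A D]
    [Algebra.FormallyUnramified A D] (j : A →+* B) {M : Type u} [Field M] (kB : B →+* M)
    (kD : D →+* M) (hk : kD.comp (algebraMap A D) = kB.comp j) (hinj : Function.Injective kB)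
    (s : Set M) (hs : ∀ y ∈ s, ∃ a b : B, kB b ≠ 0 ∧ y * kB b = kB a)
    (hgen : Subfield.closure (s ∪ Set.range kD) = ⊤)
    (W : ValuationSubring M) (h : EtRam.Dominates B kB W) :
    IsDiscreteValuationRing W ∧ RamHom (kB.codRestrict W h.1) 1 := by
  letI : Algebra A B := j.toAlgebra
  letI : Algebra B M := kB.toAlgebra
  letI : Algebra A M := (kB.comp j).toAlgebra
  haveI : IsScalarTower A B M := IsScalarTower.of_algebraMap_eq fun _ => rfl
  let ψ : B ⊗[A] D →ₐ[B] M := Algebra.TensorProduct.lift (Algebra.ofId B M)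
    { kD with commutes' := RingHom.congr_fun hk } fun _ _ => .all _ _
  have hψB : ∀ b : B, ψ (b ⊗ₜ 1) = kB b := fun b => by
    simp only [ψ, Algebra.TensorProduct.lift_tmul, map_one, mul_one]
    rfl
  have hψD : ∀ d : D, ψ (1 ⊗ₜ d) = kD d := fun d => by
    simp only [ψ, Algebra.TensorProduct.lift_tmul, map_one, one_mul]
    rfl
  refine ramHom_one_of_formallyUnramified (D := B ⊗[A] D) ψ.toRingHom kB
    (RingHom.ext ψ.commutes) hinj (frac_of_gen ψ.toRingHom (s ∪ Set.range kD) ?_ hgen) W h
  rintro y (hy | ⟨d, rfl⟩)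
  · obtain ⟨a, b, hb, hab⟩ := hs y hy
    exact ⟨a ⊗ₜ 1, b ⊗ₜ 1, by simpa [hψB] using hb, by simpa [hψB] using hab⟩
  · exact ⟨1 ⊗ₜ d, 1, by simp, by simp [hψD]⟩

end BaseChange

end Groth.Agent.EtRam26
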