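import Groth.Agent.EtRam26.Abh

/-!
Unramified and tame extensions stay so after base change to a larger discrete valuation ring.
-/

set_option autoImplicit false
set_option linter.style.haveILetI false

universe u

open IsLocalRing Polynomial
open scoped TensorProduct

namespace Groth.Agent.EtRam26

theorem base_dvr {B L : Type u} [CommRing B] [IsDomain B] [IsDiscreteValuationRing B] [Field L]
    [Algebra B L] [IsFractionRing B L] (V : ValuationSubring L)
    (h : EtRam.Dominates B (algebraMap B L) V) :
    IsDiscreteValuationRing V ∧ RamHom ((algebraMap B L).codRestrict V h.1) 1 :=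
  ramHom_one_of_formallyUnramified (D := B) (algebraMap B L) (algebraMap B L)
    (by rw [Algebra.algebraMap_self, RingHom.comp_id]) (IsFractionRing.injective B L)
    (fun y => by
      obtain ⟨a, b, hb, rfl⟩ := IsFractionRing.div_surjective (A := B) y
      have hb0 : algebraMap B L b ≠ 0 :=
        (map_ne_zero_iff _ (IsFractionRing.injective B L)).mpr (nonZeroDivisors.ne_zero hb)
      exact ⟨a, b, hb0, div_mul_cancel₀ _ hb0⟩) V h

section Factor

variable {K L K' F : Type u} [Field K] [Field L] [Field K'] [Algebra K L] [Algebra K K']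
  [Field F] (iL : L →+* F) (iK : K' →+* F)

/-- The data of a factor of a tensor product of fields. -/
structure IsFactor : Prop where
  comm : ∀ x : K, iK (algebraMap K K' x) = iL (algebraMap K L x)
  gen : Subfield.closure (Set.range iL ∪ Set.range iK) = ⊤
  finite : letI := iL.toAlgebra; FiniteDimensional L F

end Factor

section Tensor

variable (K L K' F : Type u) [Field K] [Field L] [Field K'] [Algebra K L] [Algebra K K']
  [Field F] [Algebra (K' ⊗[K] L) F]

/-- The map of the larger base field to a factor. -/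
noncomputable abbrev inL : L →+* F :=
  (algebraMap (K' ⊗[K] L) F).comp (Algebra.TensorProduct.includeRight : L →ₐ[K] K' ⊗[K] L).toRingHom

/-- The map of the extension to a factor. -/
noncomputable abbrev inK : K' →+* F :=
  (algebraMap (K' ⊗[K] L) F).comp (Algebra.TensorProduct.includeLeftRingHom : K' →+* K' ⊗[K] L)

theorem isFactor_tensor [FiniteDimensional K K']
    (hF : Function.Surjective (algebraMap (K' ⊗[K] L) F)) :
    IsFactor (K := K) (inL K L K' F) (inK K L K' F) where
  comm x := congrArg (algebraMap (K' ⊗[K] L) F) (Algebra.TensorProduct.tmul_one_eq_one_tmul x)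
  gen := by
    refine top_le_iff.mp fun x _ => ?_
    obtain ⟨t, rfl⟩ := hF x
    clear hF
    induction t using TensorProduct.induction_on with
    | zero => simp
    | tmul a b =>
      have : (a ⊗ₜ[K] b : K' ⊗[K] L) = (a ⊗ₜ 1) * (1 ⊗ₜ b) := by simp
      rw [this, map_mul]
      exact mul_mem (Subfield.subset_closure (Or.inr ⟨a, rfl⟩))
        (Subfield.subset_closure (Or.inl ⟨b, rfl⟩))
    | add a b ha hb => rw [map_add]; exact add_mem (ha trivial) (hb trivial)
  finite := by
    letI := (inL K L K' F).toAlgebra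
    let Φ : L ⊗[K] K' →ₗ[L] F :=
      { toFun := fun t => algebraMap (K' ⊗[K] L) F (Algebra.TensorProduct.comm K L K' t)
        map_add' := fun a b => by rw [map_add, map_add]
        map_smul' := fun l t => by
          rw [Algebra.smul_def, map_mul, map_mul, RingHom.id_apply, Algebra.smul_def]
          rfl }
    refine Module.Finite.of_surjective Φ fun x => ?_
    obtain ⟨t, rfl⟩ := hF x
    exact ⟨(Algebra.TensorProduct.comm K L K').symm t, congrArg _ (AlgEquiv.apply_symm_apply _ t)⟩

end Tensor

section Main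

variable {A B K L K' : Type u} [CommRing A] [IsDomain A] [IsDiscreteValuationRing A] [CommRing B]
  [IsDomain B] [IsDiscreteValuationRing B] [Algebra A B] [IsLocalHom (algebraMap A B)]
  [Field K] [Field L] [Field K'] [Algebra A K] [IsFractionRing A K] [Algebra B L] [IsFractionRing B L]
  [Algebra K L] [Algebra A L] [IsScalarTower A K L] [IsScalarTower A B L]
  [Algebra K K'] [FiniteDimensional K K'] [Algebra.IsSeparable K K']
  {F : Type u} [Field F] {iL : L →+* F} {iK : K' →+* F} (hF : IsFactor (K := K) iL iK)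

include hF in
omit [FiniteDimensional K K'] [Algebra.IsSeparable K K'] in
theorem dvr_of_dominates_factor (V : ValuationSubring F)
    (h : EtRam.Dominates B (iL.comp (algebraMap B L)) V) :
    IsDiscreteValuationRing V :=
  dvr_of_dominates_finite (A := B) (K := L) _ hF.finite V h

include hF in
omit [IsLocalHom (algebraMap A B)] [IsDomain B] [IsDiscreteValuationRing B] in
theorem inK_base (a : A) :
    iK (algebraMap K K' (algebraMap A K a)) = iL (algebraMap B L (algebraMap A B a)) := by
  rw [hF.comm, ← IsScalarTower.algebraMap_apply A K L, ← IsScalarTower.algebraMap_apply A B L]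

include hF in
theorem isUnramifiedExt_factor
    (h : EtRam.IsUnramifiedExt A ((algebraMap K K').comp (algebraMap A K))) :
    EtRam.IsUnramifiedExt B (iL.comp (algebraMap B L)) := by
  letI : Algebra A K' := ((algebraMap K K').comp (algebraMap A K)).toAlgebra
  haveI : IsScalarTower A K K' := IsScalarTower.of_algebraMap_eq fun _ => rfl
  obtain ⟨D, _, _, ψ, hfin, hun, hψ, hfrac⟩ := exists_unramified_model (A := A) (K := K) (A' := A)
    (L' := K') (algebraMap_injective' (K := K)) h
  refine isUnramifiedExt_iff.mpr fun W hW => ?_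
  refine (ramHom_one_of_baseChange (D := D) (algebraMap A B) _ (iK.comp ψ)
    (RingHom.ext fun a => ?_) (iL.injective.comp (IsFractionRing.injective B L))
    (Set.range iL) ?_ (top_le_iff.mp (hF.gen.ge.trans (Subfield.closure_le.mpr ?_))) W hW).2
  · show iK (ψ (algebraMap A D a)) = iL (algebraMap B L (algebraMap A B a))
    rw [show ψ (algebraMap A D a) = algebraMap A K' a from RingHom.congr_fun hψ a]
    exact inK_base hF a
  · rintro _ ⟨l, rfl⟩
    obtain ⟨a, b, hb, rfl⟩ := IsFractionRing.div_surjective (A := B) l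
    have hb0 : algebraMap B L b ≠ 0 :=
      (map_ne_zero_iff _ (IsFractionRing.injective B L)).mpr (nonZeroDivisors.ne_zero hb)
    refine ⟨a, b, (map_ne_zero_iff _ iL.injective).mpr hb0, ?_⟩
    simp only [RingHom.comp_apply, ← map_mul, div_mul_cancel₀ _ hb0]
  · rintro x (hx | ⟨k, rfl⟩)
    · exact Subfield.subset_closure (Or.inl hx)
    obtain ⟨a, b, hb, hab⟩ := hfrac k
    rw [show k = ψ a / ψ b from (eq_div_iff hb).mpr hab, map_div₀]
    exact div_mem (Subfield.subset_closure (Or.inr ⟨a, rfl⟩))
      (Subfield.subset_closure (Or.inr ⟨b, rfl⟩))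

end Main

section Tame

/-- Two roots of order invertible in the residue field give a tame extension. -/
theorem tame_base {B L M : Type u} [CommRing B] [IsDomain B] [IsDiscreteValuationRing B] [Field L]
    [Field M] [Algebra B L] [IsFractionRing B L] (i : L →+* M) (W : ValuationSubring M) {e : ℕ}
    (he : 0 < e) (he' : (e : ResidueField B) ≠ 0) (p : B) (hp : p ≠ 0) (ϖ : B) (hϖ : Irreducible ϖ)
    (y z : M) (hy : y ^ e = i (algebraMap B L ϖ)) (hz : z ^ e = i (algebraMap B L p))
    (hgen : Subfield.closure (Set.range i ∪ {y, z}) = ⊤)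
    (h : EtRam.Dominates B (i.comp (algebraMap B L)) W) :
    IsDiscreteValuationRing W ∧ RamHom ((i.comp (algebraMap B L)).codRestrict W h.1) e ∧ z ∈ W := by
  have hV := dominates_comap i h
  obtain ⟨hdvr₀, hr₀⟩ := base_dvr _ hV
  haveI := hdvr₀
  haveI := isLocalHom_codRestrict hV
  obtain ⟨m, u, hu⟩ := IsDiscreteValuationRing.eq_unit_mul_pow_irreducible hp hϖ
  let c : B →+* W.comap i := (algebraMap B L).codRestrict (W.comap i) hV.1
  obtain ⟨hW, h₁⟩ := tame_root i W he ((natCast_ne_zero_iff (f := c) e).mpr he') (c ϖ)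
    (irreducible_image hr₀ hϖ) (c u) (u.isUnit.map c) m y z hy (by
      rw [hz, hu, map_mul (algebraMap B L), map_pow (algebraMap B L)]
      rfl) hgen
  refine ⟨hW, ?_, ?_⟩
  · rw [codRestrict_comp i W hV h, ← mul_one e]
    exact RamHom.comp hr₀ h₁
  · by_contra hcon
    have h1 : (1 : W.ValueGroup) < W.valuation z := by
      rwa [← not_le, ValuationSubring.valuation_le_one_iff]
    have h2 : W.valuation (z ^ e) ≤ 1 := by
      rw [ValuationSubring.valuation_le_one_iff, hz]
      exact h.1 _
    rw [map_pow] at h2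
    exact absurd h2 (not_le.mpr (one_lt_pow₀ h1 he.ne'))

/-- The descent from a bigger field in which everything is visible. -/
theorem tame_aux {A B L F Ω D : Type u} [CommRing A] [CommRing B] [IsDomain B]
    [IsDiscreteValuationRing B] [Field L] [Algebra B L] [IsFractionRing B L] [Field F] [Field Ω]
    [CommRing D] {π : A} {e : ℕ}
    [Algebra (AdjoinRoot (X ^ e - C π : A[X])) D] [Module.Finite (AdjoinRoot (X ^ e - C π : A[X])) D]
    [Algebra.FormallyUnramified (AdjoinRoot (X ^ e - C π : A[X])) D] (he : 0 < e)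
    (he' : (e : ResidueField B) ≠ 0) (a : A →+* B) (hp : a π ≠ 0) (ϖ : B) (hϖ : Irreducible ϖ)
    (iL : L →+* F) (iF : F →+* Ω) (kΩ : D →+* Ω)
    (ζ : AdjoinRoot (X ^ e - C π : A[X]) →+* Ω)
    (hζ : ζ.comp (AdjoinRoot.of _) = ((iF.comp iL).comp (algebraMap B L)).comp a)
    (hk : kΩ.comp (algebraMap (AdjoinRoot (X ^ e - C π : A[X])) D) = ζ)
    (y : Ω) (hy : y ^ e = iF (iL (algebraMap B L ϖ)))
    (hDM : ∀ d, kΩ d ∈ Subfield.closure (Set.range iF ∪ {y, ζ (AdjoinRoot.root _)}))
    (hFgen : ∀ f : F, iF f ∈ Subfield.closure (Set.range (iF.comp iL) ∪ Set.range kΩ))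
    (V : ValuationSubring F) [IsDiscreteValuationRing V]
    (hV : EtRam.Dominates B (iL.comp (algebraMap B L)) V) :
    ∃ m, 0 < m ∧ RamHom ((iL.comp (algebraMap B L)).codRestrict V hV.1) m ∧
      (m : ResidueField B) ≠ 0 := by
  let z := ζ (AdjoinRoot.root _)
  let g : B →+* F := iL.comp (algebraMap B L)
  let jL := iF.comp iL
  let M₁ := Subfield.closure (Set.range jL ∪ {y, z})
  let M := Subfield.closure (Set.range iF ∪ {y, z})
  have hM₁ : M₁ ≤ M := Subfield.closure_mono (Set.union_subset_union_left _ (by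
    rintro _ ⟨x, rfl⟩; exact ⟨_, rfl⟩))
  let i₁ : L →+* M₁ := jL.codRestrict M₁ fun x => Subfield.subset_closure (Or.inl ⟨x, rfl⟩)
  let j : M₁ →+* M := M₁.subtype.codRestrict M fun x => hM₁ x.2
  let iM : F →+* M := iF.codRestrict M fun x => Subfield.subset_closure (Or.inl ⟨x, rfl⟩)
  obtain ⟨W, hW⟩ := exists_comap_eq iM V
  subst hW
  let W₁ := W.comap j
  let y₁ : M₁ := ⟨y, Subfield.subset_closure (Or.inr (Or.inl rfl))⟩
  let z₁ : M₁ := ⟨z, Subfield.subset_closure (Or.inr (Or.inr rfl))⟩
  have hdomW : EtRam.Dominates B (iM.comp g) W := dominates_of_comap iM hV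
  have hdomW₁ : EtRam.Dominates B (i₁.comp (algebraMap B L)) W₁ := dominates_comap j hdomW
  obtain ⟨hW₁, h₁, hz₁⟩ := tame_base i₁ W₁ he he' (a π) hp ϖ hϖ y₁ z₁ (Subtype.ext hy)
    (Subtype.ext (by
      show ζ (AdjoinRoot.root _) ^ e = jL (algebraMap B L (a π))
      rw [← map_pow, root_pow]
      exact RingHom.congr_fun hζ π))
    (by
      rw [← closure_preimage_eq_top (Set.range jL ∪ {y, z})]
      congr 1
      ext x
      constructor
      · rintro (⟨t, rfl⟩ | rfl | rfl)
        · exact Or.inl ⟨t, rfl⟩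
        · exact Or.inr (Or.inl rfl)
        · exact Or.inr (Or.inr rfl)
      · rintro (⟨t, ht⟩ | hx | hx)
        · exact Or.inl ⟨t, Subtype.ext ht⟩
        · exact Or.inr (Or.inl (Subtype.ext hx))
        · exact Or.inr (Or.inr (Subtype.ext hx))) hdomW₁
  haveI := hW₁
  haveI : IsDiscreteValuationRing (W.comap j) := hW₁
  have hmem : ∀ t, ζ t ∈ M₁ := by
    intro t
    induction t using AdjoinRoot.induction_on with
    | ih q =>
      induction q using Polynomial.induction_on' with
      | add p q hp hq => rw [map_add, map_add]; exact add_mem hp hq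
      | monomial n r =>
        rw [← Polynomial.C_mul_X_pow_eq_monomial, map_mul, map_pow, AdjoinRoot.mk_C,
          AdjoinRoot.mk_X, map_mul, map_pow]
        refine mul_mem ?_ (pow_mem z₁.2 n)
        rw [← RingHom.comp_apply ζ (AdjoinRoot.of _), hζ]
        exact Subfield.subset_closure (Or.inl ⟨_, rfl⟩)
  have hmemW : ∀ t, (⟨ζ t, hmem t⟩ : M₁) ∈ W₁ := by
    intro t
    induction t using AdjoinRoot.induction_on with
    | ih q =>
      induction q using Polynomial.induction_on' with
      | add p q hp hq =>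
        rw [show (⟨ζ (AdjoinRoot.mk _ (p + q)), hmem _⟩ : M₁) =
          ⟨ζ (AdjoinRoot.mk _ p), hmem _⟩ + ⟨ζ (AdjoinRoot.mk _ q), hmem _⟩ from
            Subtype.ext (by push_cast; rw [map_add, map_add])]
        exact add_mem hp hq
      | monomial n r =>
        rw [show (⟨ζ (AdjoinRoot.mk _ (Polynomial.monomial n r)), hmem _⟩ : M₁) =
          i₁ (algebraMap B L (a r)) * z₁ ^ n from Subtype.ext (by
            push_cast
            rw [← Polynomial.C_mul_X_pow_eq_monomial, map_mul, map_pow, AdjoinRoot.mk_C,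
              AdjoinRoot.mk_X, map_mul, map_pow, ← RingHom.comp_apply ζ (AdjoinRoot.of _), hζ]
            rfl)]
        exact mul_mem (hdomW₁.1 _) (pow_mem hz₁ n)
  let j' : AdjoinRoot (X ^ e - C π : A[X]) →+* W₁ := (ζ.codRestrict M₁ hmem).codRestrict W₁ hmemW
  let kD : D →+* M := kΩ.codRestrict M hDM
  obtain ⟨hWdvr, h₂⟩ := ramHom_one_of_baseChange (D := D) j' (j.comp W₁.subtype) kD
    (RingHom.ext fun t => Subtype.ext (RingHom.congr_fun hk t))
    (j.injective.comp Subtype.val_injective) (Set.range j)
    (fun y hy => exists_frac_range j W₁ y hy) (by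
      refine top_le_iff.mp ((closure_preimage_eq_top (Set.range iF ∪ {y, z})).ge.trans
        (Subfield.closure_le.mpr ?_))
      let N := (Subfield.closure (Set.range j ∪ Set.range kD)).map M.subtype
      have hN : Subfield.closure (Set.range jL ∪ Set.range kΩ) ≤ N := by
        refine Subfield.closure_le.mpr ?_
        rintro t (⟨l, rfl⟩ | ⟨d, rfl⟩)
        · exact ⟨j (i₁ l), Subfield.subset_closure (Or.inl ⟨i₁ l, rfl⟩), rfl⟩
        · exact ⟨kD d, Subfield.subset_closure (Or.inr ⟨d, rfl⟩), rfl⟩
      rintro x (⟨f, hf⟩ | hx | hx)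
      · obtain ⟨x', hx', hxx⟩ := hN (hFgen f)
        rw [show x = x' from Subtype.ext (hf.symm.trans hxx.symm)]
        exact hx'
      · rw [show x = j y₁ from Subtype.ext hx, SetLike.mem_coe]
        exact Subfield.subset_closure (Or.inl ⟨y₁, rfl⟩)
      · rw [show x = j z₁ from Subtype.ext hx, SetLike.mem_coe]
        exact Subfield.subset_closure (Or.inl ⟨z₁, rfl⟩)) W (dominates_subtype j W)
  haveI := hWdvr
  have htot : RamHom ((iM.comp g).codRestrict W hdomW.1) e := by
    have : (iM.comp g).codRestrict W hdomW.1 =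
        ((j.comp W₁.subtype).codRestrict W (dominates_subtype j W).1).comp
          ((i₁.comp (algebraMap B L)).codRestrict W₁ hdomW₁.1) :=
      RingHom.ext fun _ => rfl
    rw [this, ← one_mul e]
    exact RamHom.comp h₁ h₂
  rw [codRestrict_comp iM W hV hdomW] at htot
  haveI := isLocalHom_codRestrict hV
  have hgV : Function.Injective (g.codRestrict (W.comap iM) hV.1) := fun s t hst =>
    (iL.injective.comp (IsFractionRing.injective B L)) (congrArg Subtype.val hst)
  obtain ⟨m, b, -, hmb, hra, -⟩ := RamHom.of_comp htot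
    ((Ideal.map_eq_bot_iff_of_injective hgV).not.mpr (IsDiscreteValuationRing.not_a_field B))
    (inclOfComap_injective iM W)
  refine ⟨m, Nat.pos_of_ne_zero fun h0 => he.ne' (by rw [hmb, h0, mul_zero]), hra,
    fun h0 => he' ?_⟩
  rw [hmb, Nat.cast_mul, h0, mul_zero]

variable {A B K L K' : Type u} [CommRing A] [IsDomain A] [IsDiscreteValuationRing A] [CommRing B]
  [IsDomain B] [IsDiscreteValuationRing B] [Algebra A B] [IsLocalHom (algebraMap A B)]
  [Field K] [Field L] [Field K'] [Algebra A K] [IsFractionRing A K] [Algebra B L] [IsFractionRing B L]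
  [Algebra K L] [Algebra A L] [IsScalarTower A K L] [IsScalarTower A B L]
  [Algebra K K'] [FiniteDimensional K K'] [Algebra.IsSeparable K K']
  {F : Type u} [Field F] {iL : L →+* F} {iK : K' →+* F} (hF : IsFactor (K := K) iL iK)

include hF in
theorem isTamelyRamified_factor
    (h : EtRam.IsTamelyRamified A ((algebraMap K K').comp (algebraMap A K)))
    (hinj : Function.Injective (algebraMap A B)) :
    EtRam.IsTamelyRamified B (iL.comp (algebraMap B L)) := by
  classical
  letI : Algebra A K' := ((algebraMap K K').comp (algebraMap A K)).toAlgebra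
  haveI : IsScalarTower A K K' := IsScalarTower.of_algebraMap_eq fun _ => rfl
  rw [isTamelyRamified_iff (iL.injective.comp (IsFractionRing.injective B L) : _)
    (dvr_of_dominates_factor hF)]
  intro V hV
  haveI := dvr_of_dominates_factor hF V hV
  obtain ⟨π, hπ'⟩ := IsDiscreteValuationRing.exists_irreducible A
  have hπ : maximalIdeal A = Ideal.span {π} :=
    (IsDiscreteValuationRing.irreducible_iff_uniformizer π).mp hπ'
  obtain ⟨e, he, he', hdiv⟩ := exists_common_index (K := K) (L := K') h
  obtain ⟨L', _, _, φ, σ₀, hgen', hfd, hsep, hφ, hφinj, hunr⟩ :=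
    exists_root_field (K := K) hπ he he' hdiv
  obtain ⟨hdom, hdvr, hmax, hof⟩ := eisenstein_root hπ he
  haveI := hdom
  haveI := hdvr
  haveI : Module.Finite A (AdjoinRoot (X ^ e - C π : A[X])) :=
    (monic_X_pow_sub_C π he.ne').finite_adjoinRoot
  letI : Algebra (AdjoinRoot (X ^ e - C π : A[X])) L' := φ.toAlgebra
  letI : Algebra A L' := ((algebraMap K L').comp (algebraMap A K)).toAlgebra
  haveI : IsScalarTower A K L' := IsScalarTower.of_algebraMap_eq fun _ => rfl
  haveI : IsScalarTower A (AdjoinRoot (X ^ e - C π : A[X])) L' :=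
    IsScalarTower.of_algebraMap_eq fun a => (RingHom.congr_fun hφ a).symm
  obtain ⟨D, _, _, ψ, hfin, hun, hψ, hfrac⟩ := exists_unramified_model (A := A) (K := K)
    (A' := AdjoinRoot (X ^ e - C π : A[X])) (L' := L') hφinj hunr
  let iF : F →+* AlgebraicClosure F := algebraMap F (AlgebraicClosure F)
  letI : Algebra K' (AlgebraicClosure F) := (iF.comp iK).toAlgebra
  letI : Algebra K' L' := σ₀.toRingHom.toAlgebra
  haveI : IsScalarTower K K' L' := IsScalarTower.of_algebraMap_eq fun x => (σ₀.commutes x).symm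
  haveI : FiniteDimensional K' L' := Module.Finite.of_restrictScalars_finite K K' L'
  obtain ⟨σ⟩ : Nonempty (L' →ₐ[K'] AlgebraicClosure F) := ⟨IsAlgClosed.lift⟩
  have hσK : ∀ k : K', σ (σ₀ k) = iF (iK k) := σ.commutes
  have hσA : ∀ a : A, σ (φ (AdjoinRoot.of _ a)) =
      iF (iL (algebraMap B L (algebraMap A B a))) := fun a => by
    rw [show φ (AdjoinRoot.of _ a) = algebraMap K L' (algebraMap A K a) from RingHom.congr_fun hφ a,
      ← σ₀.commutes, hσK, inK_base (B := B) hF a]
  obtain ⟨ϖ, hϖ⟩ := IsDiscreteValuationRing.exists_irreducible B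
  obtain ⟨y, hy⟩ := IsAlgClosed.exists_pow_nat_eq (iF (iL (algebraMap B L ϖ))) he
  refine tame_aux (D := D) he ((natCast_ne_zero_iff (f := algebraMap A B) e).mpr he')
    (algebraMap A B) ((map_ne_zero_iff _ hinj).mpr hπ'.ne_zero) ϖ hϖ iL iF (σ.toRingHom.comp ψ)
    (σ.toRingHom.comp φ) (RingHom.ext hσA) (by rw [RingHom.comp_assoc, hψ]; rfl) y hy ?_ ?_ V hV
  · intro d
    have htop : Subfield.closure (Set.range σ₀ ∪ {φ (AdjoinRoot.root _)}) ≤
        (Subfield.closure (Set.range iF ∪ {y, σ (φ (AdjoinRoot.root _))})).comap σ.toRingHom :=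
      Subfield.closure_le.mpr (by
        rintro x (⟨k, rfl⟩ | rfl)
        · rw [SetLike.mem_coe, Subfield.mem_comap]
          show σ (σ₀ k) ∈ _
          rw [hσK]
          exact Subfield.subset_closure (Or.inl ⟨_, rfl⟩)
        · exact Subfield.subset_closure (Or.inr (Or.inr rfl)))
    exact htop (hgen'.ge trivial)
  · intro f
    have htop : Subfield.closure (Set.range iL ∪ Set.range iK) ≤
        (Subfield.closure (Set.range (iF.comp iL) ∪ Set.range (σ.toRingHom.comp ψ))).comap iF :=
      Subfield.closure_le.mpr (by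
        rintro t (⟨l, rfl⟩ | ⟨k, rfl⟩)
        · exact Subfield.subset_closure (Or.inl ⟨l, rfl⟩)
        · obtain ⟨a, b, hb, hab⟩ := hfrac (σ₀ k)
          rw [SetLike.mem_coe, Subfield.mem_comap]
          rw [← hσK, (eq_div_iff hb).mpr hab, map_div₀]
          exact div_mem (Subfield.subset_closure (Or.inr ⟨a, rfl⟩))
            (Subfield.subset_closure (Or.inr ⟨b, rfl⟩)))
    exact htop (hF.gen.ge trivial)

end Tame

end Groth.Agent.EtRam26
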