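import Groth.Agent.EtRam26.Unr

/-!
Valuation rings after adjoining roots (Kummer extensions).
-/

set_option autoImplicit false
set_option linter.style.haveILetI false

universe u

open IsLocalRing Polynomial

namespace Groth.Agent.EtRam26

variable {F M : Type u} [Field F] [Field M]

theorem closure_preimage_eq_top (s : Set M) :
    Subfield.closure (Subtype.val ⁻¹' s : Set (Subfield.closure s)) = ⊤ := by
  refine top_le_iff.mp fun x _ => ?_
  have h : (Subfield.closure (Subtype.val ⁻¹' s : Set (Subfield.closure s))).map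
      (Subfield.closure s).subtype = Subfield.closure s := by
    rw [RingHom.map_field_closure]
    refine congrArg _ ?_
    rw [Subfield.coe_subtype, Set.image_preimage_eq_inter_range, Subtype.range_coe]
    exact Set.inter_eq_left.mpr Subfield.subset_closure
  obtain ⟨y, hy, hxy⟩ := h.ge x.2
  exact Subtype.ext hxy ▸ hy

theorem dominates_subtype (i : F →+* M) (W : ValuationSubring M) :
    EtRam.Dominates (W.comap i) (i.comp (W.comap i).subtype) W :=
  dominates_of_comap i ⟨fun a => a.2, fun a ha => ((W.comap i).valuation_lt_one_iff a).mp ha⟩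

theorem exists_frac_range (i : F →+* M) (V : ValuationSubring F) (y : M) (hy : y ∈ Set.range i) :
    ∃ a b : V, i b ≠ 0 ∧ y * i b = i a := by
  obtain ⟨x, rfl⟩ := hy
  obtain ⟨a, b, hb, rfl⟩ := IsFractionRing.div_surjective (A := V) x
  have hb0 : (b : F) ≠ 0 := fun h => nonZeroDivisors.ne_zero hb (Subtype.ext h)
  refine ⟨a, b, (map_ne_zero i).mpr hb0, ?_⟩
  rw [← map_mul]
  exact congrArg i (div_mul_cancel₀ (a : F) hb0)

/-- A root of a unit is unramified. -/
theorem unit_root (i : F →+* M) (W : ValuationSubring M) [IsDiscreteValuationRing (W.comap i)]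
    {n : ℕ} (hn : 0 < n) (hn' : (n : ResidueField (W.comap i)) ≠ 0) (u : W.comap i) (hu : IsUnit u)
    (w : M) (hw : w ^ n = i u) (hgen : Subfield.closure (Set.range i ∪ {w}) = ⊤) :
    IsDiscreteValuationRing W ∧ RamHom (EtRam.inclOfComap W i) 1 := by
  let V := W.comap i
  let f : V[X] := X ^ n - C u
  have hf : f.Monic := monic_X_pow_sub_C u hn.ne'
  haveI : Module.Finite V (AdjoinRoot f) := hf.finite_adjoinRoot
  have hroot : IsUnit (AdjoinRoot.root f) := by
    have h1 : AdjoinRoot.root f ^ n = AdjoinRoot.of f u := by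
      have h2 := AdjoinRoot.eval₂_root f
      simpa [f, sub_eq_zero] using h2
    exact (isUnit_pow_iff hn.ne').mp (h1 ▸ hu.map (AdjoinRoot.of f))
  haveI : Algebra.FormallyUnramified V (AdjoinRoot f) := by
    refine formallyUnramified_adjoinRoot f ?_
    simp only [f, derivative_sub, derivative_C, sub_zero, derivative_X_pow, map_mul, aeval_C,
      map_pow, aeval_X]
    refine IsUnit.mul ?_ (hroot.pow _)
    exact (isUnit_of_map_unit (residue V) _ (by rw [map_natCast]; exact hn'.isUnit)).map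
      (algebraMap V (AdjoinRoot f))
  let ψ : AdjoinRoot f →+* M := AdjoinRoot.lift (i.comp V.subtype) w
    (by simp only [f, eval₂_sub, eval₂_X_pow, eval₂_C]; exact sub_eq_zero.mpr hw)
  have hψ : ∀ a, ψ (AdjoinRoot.of f a) = i a := fun a => AdjoinRoot.lift_of _
  refine ramHom_one_of_formallyUnramified (A := V) ψ (i.comp V.subtype)
    (RingHom.ext fun a => hψ a) (i.injective.comp Subtype.val_injective)
    (frac_of_gen ψ _ ?_ hgen) W (dominates_subtype i W)
  rintro y (hy | rfl)
  · obtain ⟨a, b, hb, hab⟩ := exists_frac_range i V y hy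
    exact ⟨AdjoinRoot.of f a, AdjoinRoot.of f b, by rw [hψ]; exact hb, by rw [hψ, hψ]; exact hab⟩
  · exact ⟨AdjoinRoot.root f, 1, by simp, by simp [ψ]⟩

/-- A root of a uniformizer is totally ramified. -/
theorem uniformizer_root (i : F →+* M) (W : ValuationSubring M)
    [IsDiscreteValuationRing (W.comap i)] {k : ℕ} (hk : 0 < k) (ϖ : W.comap i) (hϖ : Irreducible ϖ)
    (z : M) (hz : z ^ k = i ϖ) (hgen : Subfield.closure (Set.range i ∪ {z}) = ⊤) :
    IsDiscreteValuationRing W ∧ RamHom (EtRam.inclOfComap W i) k := by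
  let V := W.comap i
  let f : V[X] := X ^ k - C ϖ
  have hf : f.Monic := monic_X_pow_sub_C ϖ hk.ne'
  have hd : f.natDegree = k := natDegree_X_pow_sub_C
  have hmV : maximalIdeal V = Ideal.span {ϖ} :=
    (IsDiscreteValuationRing.irreducible_iff_uniformizer ϖ).mp hϖ
  have h0 : maximalIdeal V = Ideal.span {f.coeff 0} := by
    rw [hmV]
    simp [f, coeff_X_pow, hk.ne, Ideal.span_singleton_neg]
    rfl
  have hlow : ∀ j < f.natDegree, f.coeff j ∈ maximalIdeal V := fun j hj => by
    rw [hd] at hj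
    rcases Nat.eq_zero_or_pos j with rfl | hj0
    · rw [h0]; exact Ideal.mem_span_singleton_self _
    · simp [f, coeff_X_pow, coeff_C, hj.ne, hj0.ne']
  have hdpos : 0 < f.natDegree := hd.symm ▸ hk
  obtain ⟨hdom, hdvr, hmax⟩ := Ram24.dvr_of_eisenstein hf hdpos hlow h0
  haveI := hdom
  haveI := hdvr
  haveI : Module.Finite V (AdjoinRoot f) := hf.finite_adjoinRoot
  let ψ : AdjoinRoot f →+* M := AdjoinRoot.lift (i.comp V.subtype) z
    (by simp only [f, eval₂_sub, eval₂_X_pow, eval₂_C]; exact sub_eq_zero.mpr hz)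
  have hψ : ∀ a, ψ (AdjoinRoot.of f a) = i a := fun a => AdjoinRoot.lift_of _
  have hψr : ψ (AdjoinRoot.root f) = z := AdjoinRoot.lift_root _
  have hmem : ∀ d, ψ d ∈ W := fun d =>
    Ram24.mem_of_isIntegral (B := V) ψ W (fun a => by
      rw [AdjoinRoot.algebraMap_eq, hψ]; exact a.2) d
  have hz1 : W.valuation z < 1 := by
    by_contra! hle
    have h1 : W.valuation (i ϖ) < 1 :=
      (W.valuation_lt_one_iff (EtRam.inclOfComap W i ϖ)).mp
        (map_nonunit (EtRam.inclOfComap W i) ϖ ((mem_maximalIdeal ϖ).mpr hϖ.not_isUnit))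
    rw [← hz, map_pow] at h1
    exact absurd h1 (not_lt.mpr (one_le_pow₀ hle))
  have hz0 : z ≠ 0 := fun h => hϖ.ne_zero (Subtype.ext (i.injective (by
    rw [show ((0 : V) : F) = 0 from rfl, map_zero, ← hz, h, zero_pow hk.ne'])))
  have hroot0 : AdjoinRoot.root f ≠ 0 := fun h => hz0 (by rw [← hψr, h, map_zero])
  have hlt := Ram24.valuation_lt_one_of_mem_maximalIdeal ψ W hmem
    ⟨_, hroot0, by rw [hψr]; exact hz1⟩
  have hinj : Function.Injective ψ := by
    rw [RingHom.injective_iff_ker_eq_bot]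
    by_contra hne
    have hker : RingHom.ker ψ = maximalIdeal (AdjoinRoot f) :=
      IsLocalRing.eq_maximalIdeal ((RingHom.ker_isPrime ψ).isMaximal hne)
    have : AdjoinRoot.root f ∈ RingHom.ker ψ := by
      rw [hker, hmax]; exact Ideal.mem_span_singleton_self _
    exact hz0 (by rwa [RingHom.mem_ker, hψr] at this)
  have hfrac : ∀ y : M, ∃ a b, ψ b ≠ 0 ∧ y * ψ b = ψ a := by
    refine frac_of_gen ψ _ ?_ hgen
    rintro y (hy | rfl)
    · obtain ⟨a, b, hb, hab⟩ := exists_frac_range i V y hy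
      exact ⟨AdjoinRoot.of f a, AdjoinRoot.of f b, by rw [hψ]; exact hb, by rw [hψ, hψ]; exact hab⟩
    · exact ⟨AdjoinRoot.root f, 1, by simp, by rw [map_one, mul_one, hψr]⟩
  let e : AdjoinRoot f ≃+* W := RingEquiv.ofBijective (ψ.codRestrict W hmem)
    ⟨fun a b h => hinj (congrArg Subtype.val h), fun w => by
      obtain ⟨d, hd⟩ := (Ram24.mem_iff_mem_range ψ hfrac W hmem hlt w).mp w.2
      exact ⟨d, Subtype.ext hd⟩⟩
  refine ⟨IsDiscreteValuationRing.RingEquivClass.isDiscreteValuationRing e, ?_⟩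
  have hincl : EtRam.inclOfComap W i = (e : AdjoinRoot f →+* W).comp (AdjoinRoot.of f) :=
    RingHom.ext fun a => Subtype.ext (hψ a).symm
  haveI : IsLocalHom (AdjoinRoot.of f) := by
    refine ((local_hom_TFAE _).out 0 2).mpr (Ideal.map_le_iff_le_comap.mpr fun a ha => ?_)
    have h := map_nonunit (EtRam.inclOfComap W i) a ha
    rw [Ideal.mem_comap, mem_maximalIdeal, mem_nonunits_iff]
    intro hu
    rw [hincl] at h
    exact h (hu.map (e : AdjoinRoot f →+* W))
  have hof : RamHom (AdjoinRoot.of f) k := by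
    refine ⟨inferInstance, sepHom_of_surjective fun y => ?_, ?_⟩
    · obtain ⟨x, rfl⟩ := residue_surjective y
      obtain ⟨a, ha⟩ := Ram24.residue_surjective_of_eisenstein hf hdpos hlow h0 x
      refine ⟨residue V a, ?_⟩
      rw [ResidueField.map_residue]
      refine (sub_eq_zero.mp ?_).symm
      rw [← map_sub, residue_eq_zero_iff, hmax]
      exact ha
    · have h1 : AdjoinRoot.root f ^ k = AdjoinRoot.of f ϖ := by
        have h2 := AdjoinRoot.eval₂_root f
        simpa [f, sub_eq_zero] using h2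
      rw [hmV, Ideal.map_span, Set.image_singleton, hmax, Ideal.span_singleton_pow, h1]
  rw [hincl, ← one_mul k]
  exact RamHom.comp hof (ramHom_equiv e)

theorem irreducible_image {R S : Type u} [CommRing R] [IsDomain R] [IsDiscreteValuationRing R]
    [CommRing S] [IsDomain S] [IsDiscreteValuationRing S] {f : R →+* S} (h : RamHom f 1) {ϖ : R}
    (hϖ : Irreducible ϖ) : Irreducible (f ϖ) := by
  obtain ⟨-, -, hm⟩ := h
  rw [pow_one, (IsDiscreteValuationRing.irreducible_iff_uniformizer ϖ).mp hϖ, Ideal.map_span,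
    Set.image_singleton] at hm
  exact (IsDiscreteValuationRing.irreducible_iff_uniformizer _).mpr hm.symm

/-- The ramification is absorbed by a root of high enough order. -/
theorem absorb_root (i : F →+* M) (W : ValuationSubring M) [IsDiscreteValuationRing (W.comap i)]
    {m k : ℕ} (hm : 0 < m) (hk : 0 < k) (hm' : (m : ResidueField (W.comap i)) ≠ 0)
    (ϖ : W.comap i) (hϖ : Irreducible ϖ) (u : W.comap i) (hu : IsUnit u) (z : M)
    (hz : z ^ (k * m) = i (u * ϖ ^ m : W.comap i))
    (hgen : Subfield.closure (Set.range i ∪ {z}) = ⊤) :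
    IsDiscreteValuationRing W ∧ RamHom (EtRam.inclOfComap W i) k := by
  have hϖ0 : i (ϖ : F) ≠ 0 := (map_ne_zero i).mpr fun h => hϖ.ne_zero (Subtype.ext h)
  let w : M := z ^ k / i ϖ
  have hw : w ^ m = i u := by
    rw [div_pow, ← pow_mul, hz, div_eq_iff (pow_ne_zero _ hϖ0)]
    push_cast
    rw [map_mul, map_pow]
  let M₁ := Subfield.closure (Set.range i ∪ {w})
  let i₁ : F →+* M₁ := i.codRestrict M₁ fun x => Subfield.subset_closure (Or.inl ⟨x, rfl⟩)
  let j : M₁ →+* M := M₁.subtype
  let W₁ := W.comap j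
  let w₁ : M₁ := ⟨w, Subfield.subset_closure (Or.inr rfl)⟩
  haveI : IsDiscreteValuationRing (W₁.comap i₁) :=
    inferInstanceAs (IsDiscreteValuationRing (W.comap i))
  obtain ⟨hW₁, h₁⟩ := unit_root i₁ W₁ hm (show (m : ResidueField (W.comap i)) ≠ 0 from hm')
    (show W₁.comap i₁ from u) hu w₁ (Subtype.ext hw) (by
      rw [← closure_preimage_eq_top (Set.range i ∪ {w})]
      congr 1
      ext x
      constructor
      · rintro (⟨y, rfl⟩ | rfl)
        · exact Or.inl ⟨y, rfl⟩
        · exact Or.inr rfl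
      · rintro (⟨y, hy⟩ | hx)
        · exact Or.inl ⟨y, Subtype.ext hy⟩
        · exact Or.inr (Subtype.ext hx))
  haveI := hW₁
  haveI : IsDiscreteValuationRing (W.comap j) := hW₁
  have hwv : W.valuation w = 1 := by
    have h1 : W.valuation (i u) = 1 :=
      (W.valuation_eq_one_iff (EtRam.inclOfComap W i u)).mp (hu.map _)
    rw [← hw, map_pow] at h1
    exact (pow_eq_one_iff.mp h1).resolve_right hm.ne'
  let wW : W₁ := ⟨w₁, (W.valuation_le_one_iff w).mp hwv.le⟩
  have hwu : IsUnit wW := by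
    refine isUnit_of_map_unit (EtRam.inclOfComap W j) wW ?_
    exact (W.valuation_eq_one_iff _).mpr hwv
  let ϖ₁ : W₁ := wW * EtRam.inclOfComap W₁ i₁ ϖ
  have hirr : Irreducible ϖ₁ :=
    (irreducible_isUnit_mul hwu).mpr (irreducible_image h₁ (ϖ := ϖ) hϖ)
  obtain ⟨hW, h₂⟩ := uniformizer_root j W hk ϖ₁ hirr z (by
      show z ^ k = w * i ϖ
      rw [div_mul_cancel₀ _ hϖ0])
    (top_le_iff.mp (hgen.ge.trans (Subfield.closure_mono (Set.union_subset_union_left _ (by
      rintro _ ⟨x, rfl⟩; exact ⟨i₁ x, rfl⟩)))))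
  refine ⟨hW, ?_⟩
  have : EtRam.inclOfComap W i = (EtRam.inclOfComap W j).comp (EtRam.inclOfComap W₁ i₁) :=
    RingHom.ext fun _ => rfl
  rw [this, ← mul_one k]
  exact RamHom.comp h₁ h₂

/-- Adjoining a root of any element is tame. -/
theorem tame_root (i : F →+* M) (W : ValuationSubring M) [IsDiscreteValuationRing (W.comap i)]
    {e : ℕ} (he : 0 < e) (he' : (e : ResidueField (W.comap i)) ≠ 0) (ϖ : W.comap i)
    (hϖ : Irreducible ϖ) (u : W.comap i) (hu : IsUnit u) (m : ℕ) (y z : M) (hy : y ^ e = i ϖ)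
    (hz : z ^ e = i (u * ϖ ^ m : W.comap i))
    (hgen : Subfield.closure (Set.range i ∪ {y, z}) = ⊤) :
    IsDiscreteValuationRing W ∧ RamHom (EtRam.inclOfComap W i) e := by
  let M₁ := Subfield.closure (Set.range i ∪ {y})
  let i₁ : F →+* M₁ := i.codRestrict M₁ fun x => Subfield.subset_closure (Or.inl ⟨x, rfl⟩)
  let j : M₁ →+* M := M₁.subtype
  let W₁ := W.comap j
  let y₁ : M₁ := ⟨y, Subfield.subset_closure (Or.inr rfl)⟩
  haveI : IsDiscreteValuationRing (W₁.comap i₁) :=
    inferInstanceAs (IsDiscreteValuationRing (W.comap i))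
  obtain ⟨hW₁, h₁⟩ := uniformizer_root i₁ W₁ he (show W₁.comap i₁ from ϖ) hϖ y₁ (Subtype.ext hy) (by
      rw [← closure_preimage_eq_top (Set.range i ∪ {y})]
      congr 1
      ext x
      constructor
      · rintro (⟨t, rfl⟩ | rfl)
        · exact Or.inl ⟨t, rfl⟩
        · exact Or.inr rfl
      · rintro (⟨t, ht⟩ | hx)
        · exact Or.inl ⟨t, Subtype.ext ht⟩
        · exact Or.inr (Subtype.ext hx))
  haveI := hW₁
  haveI : IsDiscreteValuationRing (W.comap j) := hW₁
  have hy0 : y ≠ 0 := fun h => hϖ.ne_zero (Subtype.ext (i.injective (by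
    rw [show ((0 : W.comap i) : F) = 0 from rfl, map_zero, ← hy, h, zero_pow he.ne'])))
  let w : M := z / y ^ m
  have hw : w ^ e = i u := by
    rw [div_pow, hz, ← pow_mul, mul_comm m e, pow_mul, hy, div_eq_iff
      (pow_ne_zero _ (hy ▸ pow_ne_zero e hy0))]
    push_cast
    rw [map_mul, map_pow]
  haveI : IsLocalHom (EtRam.inclOfComap W₁ i₁) := inferInstance
  obtain ⟨hW, h₂⟩ := unit_root j W he
    ((natCast_ne_zero_iff (f := EtRam.inclOfComap W₁ i₁) e).mpr he')
    (EtRam.inclOfComap W₁ i₁ u) (hu.map _) w hw (by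
      refine top_le_iff.mp (hgen.ge.trans (Subfield.closure_le.mpr ?_))
      rintro x (⟨t, rfl⟩ | hx | hx)
      · exact Subfield.subset_closure (Or.inl ⟨i₁ t, rfl⟩)
      · rw [hx]; exact Subfield.subset_closure (Or.inl ⟨y₁, rfl⟩)
      · rw [Set.mem_singleton_iff] at hx
        rw [hx]
        have h1 : w * y ^ m = z := div_mul_cancel₀ _ (pow_ne_zero _ hy0)
        rw [← h1]
        rw [SetLike.mem_coe]
        refine mul_mem (Subfield.subset_closure (Or.inr rfl)) ?_
        have hy2 : y ∈ Subfield.closure (Set.range j ∪ {w}) := Subfield.subset_closure (Or.inl ⟨y₁, rfl⟩)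
        exact pow_mem hy2 m)
  refine ⟨hW, ?_⟩
  have : EtRam.inclOfComap W i = (EtRam.inclOfComap W j).comp (EtRam.inclOfComap W₁ i₁) :=
    RingHom.ext fun _ => rfl
  rw [this, ← one_mul e]
  exact RamHom.comp h₁ h₂

/-- Abhyankar's lemma at one place. -/
theorem abhyankar {A : Type u} [CommRing A] [IsDomain A] [IsDiscreteValuationRing A] {π : A}
    (hπ : maximalIdeal A = Ideal.span {π}) (g : A →+* F) (i : F →+* M) (W : ValuationSubring M)
    [IsDiscreteValuationRing (W.comap i)] (h : EtRam.Dominates A g (W.comap i)) {m k : ℕ}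
    (hram : RamHom (g.codRestrict (W.comap i) h.1) m) (hm : 0 < m) (hk : 0 < k)
    (hm' : (m : ResidueField A) ≠ 0) (z : M) (hz : z ^ (k * m) = i (g π))
    (hgen : Subfield.closure (Set.range i ∪ {z}) = ⊤) :
    IsDiscreteValuationRing W ∧
      RamHom ((i.comp g).codRestrict W (dominates_of_comap i h).1) (k * m) := by
  obtain ⟨ϖ, hϖ⟩ := IsDiscreteValuationRing.exists_irreducible (W.comap i)
  have hmap := hram.2.2
  replace hmap := (congrArg (Ideal.map (g.codRestrict (W.comap i) h.1)) hπ).symm.trans hmap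
  rw [Ideal.map_span, Set.image_singleton,
    (IsDiscreteValuationRing.irreducible_iff_uniformizer ϖ).mp hϖ, Ideal.span_singleton_pow,
    Ideal.span_singleton_eq_span_singleton] at hmap
  obtain ⟨u, hu⟩ := hmap.symm
  haveI := isLocalHom_codRestrict h
  obtain ⟨hW, h₂⟩ := absorb_root i W hm hk
    ((natCast_ne_zero_iff (f := g.codRestrict (W.comap i) h.1) m).mpr hm') ϖ hϖ u u.isUnit z
    (by rw [hz, mul_comm (u : W.comap i), hu]; rfl) hgen
  refine ⟨hW, ?_⟩
  rw [codRestrict_comp i W h (dominates_of_comap i h)]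
  exact RamHom.comp hram h₂

end Groth.Agent.EtRam26
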