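import Groth.Agent.EtRam26.Root
import Mathlib.RingTheory.DedekindDomain.IntegralClosure
import Mathlib.FieldTheory.SeparableDegree
import Mathlib.FieldTheory.IsAlgClosed.AlgebraicClosure

/-!
Abhyankar's lemma and base change of tame and unramified extensions.
-/

set_option autoImplicit false
set_option linter.style.haveILetI false

universe u

open IsLocalRing Polynomial

namespace Groth.Agent.EtRam26

section Eisenstein

variable {A : Type u} [CommRing A] [IsDomain A] [IsDiscreteValuationRing A] {π : A}
  (hπ : maximalIdeal A = Ideal.span {π}) {e : ℕ} (he : 0 < e)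

omit [IsDomain A] [IsDiscreteValuationRing A] in
theorem root_pow (π : A) (e : ℕ) :
    AdjoinRoot.root (X ^ e - C π : A[X]) ^ e = AdjoinRoot.of (X ^ e - C π : A[X]) π := by
  have h2 := AdjoinRoot.eval₂_root (X ^ e - C π : A[X])
  simpa [sub_eq_zero] using h2

include hπ he in
/-- The ring obtained by adjoining a root of a uniformizer. -/
theorem eisenstein_root :
    ∃ (_ : IsDomain (AdjoinRoot (X ^ e - C π : A[X])))
      (_ : IsDiscreteValuationRing (AdjoinRoot (X ^ e - C π : A[X]))),
      maximalIdeal (AdjoinRoot (X ^ e - C π : A[X])) = Ideal.span {AdjoinRoot.root _} ∧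
      RamHom (AdjoinRoot.of (X ^ e - C π : A[X])) e := by
  let f : A[X] := X ^ e - C π
  have hf : f.Monic := monic_X_pow_sub_C π he.ne'
  have hd : f.natDegree = e := natDegree_X_pow_sub_C
  have h0 : maximalIdeal A = Ideal.span {f.coeff 0} := by
    rw [hπ]
    simp [f, coeff_X_pow, he.ne, Ideal.span_singleton_neg]
  have hlow : ∀ j < f.natDegree, f.coeff j ∈ maximalIdeal A := fun j hj => by
    rw [hd] at hj
    rcases Nat.eq_zero_or_pos j with rfl | hj0
    · rw [h0]; exact Ideal.mem_span_singleton_self _
    · simp [f, coeff_X_pow, coeff_C, hj.ne, hj0.ne']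
  have hdpos : 0 < f.natDegree := hd.symm ▸ he
  obtain ⟨hdom, hdvr, hmax⟩ := Ram24.dvr_of_eisenstein hf hdpos hlow h0
  haveI := hdom
  haveI := hdvr
  refine ⟨hdom, hdvr, hmax, ?_⟩
  have hmap : (maximalIdeal A).map (AdjoinRoot.of f) = maximalIdeal (AdjoinRoot f) ^ e := by
    rw [hπ, Ideal.map_span, Set.image_singleton, hmax, Ideal.span_singleton_pow, root_pow]
  haveI : IsLocalHom (AdjoinRoot.of f) :=
    ((local_hom_TFAE _).out 0 2).mpr (hmap.le.trans (Ideal.pow_le_self he.ne'))
  refine ⟨inferInstance, sepHom_of_surjective fun y => ?_, hmap⟩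
  obtain ⟨x, rfl⟩ := residue_surjective y
  obtain ⟨a, ha⟩ := Ram24.residue_surjective_of_eisenstein hf hdpos hlow h0 x
  refine ⟨residue A a, ?_⟩
  rw [ResidueField.map_residue]
  refine (sub_eq_zero.mp ?_).symm
  rw [← map_sub, residue_eq_zero_iff, hmax]
  exact ha

end Eisenstein

section Tame

variable {A K L : Type u} [CommRing A] [IsDomain A] [IsDiscreteValuationRing A] [Field K]
  [Algebra A K] [IsFractionRing A K] [Field L] [Algebra K L] [Algebra A L] [IsScalarTower A K L]
  [FiniteDimensional K L] [Algebra.IsSeparable K L]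

omit [Algebra.IsSeparable K L] in
include K in
theorem dvr_of_dominates (V : ValuationSubring L) (h : EtRam.Dominates A (algebraMap A L) V) :
    IsDiscreteValuationRing V := by
  refine Ram24.dvr_of_dominates (B := A) (L := K) V ?_
  rwa [← IsScalarTower.algebraMap_eq]

omit [Algebra.IsSeparable K L] [FiniteDimensional K L] in
include K in
theorem algebraMap_injective' : Function.Injective (algebraMap A L) := by
  rw [IsScalarTower.algebraMap_eq A K L]
  exact (algebraMap K L).injective.comp (IsFractionRing.injective A K)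

include K in
/-- A common multiple of the ramification indices. -/
theorem exists_common_index (h : EtRam.IsTamelyRamified A (algebraMap A L)) :
    ∃ e₀ : ℕ, 0 < e₀ ∧ (e₀ : ResidueField A) ≠ 0 ∧
      ∀ (V : ValuationSubring L) (hV : EtRam.Dominates A (algebraMap A L) V),
        ∃ m, 0 < m ∧ m ∣ e₀ ∧ RamHom ((algebraMap A L).codRestrict V hV.1) m ∧
          (m : ResidueField A) ≠ 0 := by
  classical
  rw [isTamelyRamified_iff (algebraMap_injective' (K := K)) (dvr_of_dominates (K := K))] at h
  haveI : Module.Finite A (integralClosure A L) := IsIntegralClosure.finite A K L _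
  have hfin : {V : ValuationSubring L | EtRam.Dominates A (algebraMap A L) V}.Finite := by
    rw [IsScalarTower.algebraMap_eq A K L]
    exact Ram24.finite_dominating
  haveI : Fintype {V : ValuationSubring L // EtRam.Dominates A (algebraMap A L) V} := hfin.fintype
  choose m hm hram hne using fun V : {V : ValuationSubring L //
    EtRam.Dominates A (algebraMap A L) V} => h V.1 V.2
  refine ⟨∏ V, m V, Finset.prod_pos fun V _ => hm V, ?_, fun V hV =>
    ⟨m ⟨V, hV⟩, hm _, Finset.dvd_prod_of_mem m (Finset.mem_univ _), hram ⟨V, hV⟩, hne ⟨V, hV⟩⟩⟩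
  rw [Nat.cast_prod]
  exact Finset.prod_ne_zero_iff.mpr fun V _ => hne V

include K in
/-- Adjoining a root of order divisible by all ramification indices gives an unramified extension. -/
theorem unramified_of_root {M : Type u} [Field M] (i : L →+* M) {π : A}
    (hπ : maximalIdeal A = Ideal.span {π}) {e : ℕ} (he : 0 < e)
    (hdiv : ∀ (V : ValuationSubring L) (hV : EtRam.Dominates A (algebraMap A L) V),
      ∃ m, 0 < m ∧ m ∣ e ∧ RamHom ((algebraMap A L).codRestrict V hV.1) m ∧
        (m : ResidueField A) ≠ 0)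
    (φ : AdjoinRoot (X ^ e - C π : A[X]) →+* M)
    (hφ : φ.comp (AdjoinRoot.of _) = i.comp (algebraMap A L))
    (hgen : Subfield.closure (Set.range i ∪ {φ (AdjoinRoot.root _)}) = ⊤)
    [IsLocalRing (AdjoinRoot (X ^ e - C π : A[X]))] :
    Function.Injective φ ∧ EtRam.IsUnramifiedExt (AdjoinRoot (X ^ e - C π : A[X])) φ := by
  obtain ⟨hdom, hdvr, hmax, hof⟩ := eisenstein_root hπ he
  haveI := hdom
  haveI := hdvr
  let A' := AdjoinRoot (X ^ e - C π : A[X])
  have hπ0 : π ≠ 0 := fun h0 => IsDiscreteValuationRing.not_a_field A (by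
    rw [hπ, h0, Ideal.span_singleton_eq_bot])
  have hz : φ (AdjoinRoot.root _) ^ e = i (algebraMap A L π) := by
    rw [← map_pow, root_pow]
    exact RingHom.congr_fun hφ π
  have hinj : Function.Injective φ := by
    rw [RingHom.injective_iff_ker_eq_bot]
    by_contra hne
    have hker : RingHom.ker φ = maximalIdeal A' :=
      IsLocalRing.eq_maximalIdeal ((RingHom.ker_isPrime φ).isMaximal hne)
    have : AdjoinRoot.root (X ^ e - C π : A[X]) ∈ RingHom.ker φ := by
      rw [hker, hmax]; exact Ideal.mem_span_singleton_self _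
    rw [RingHom.mem_ker] at this
    rw [this, zero_pow he.ne', eq_comm, map_eq_zero] at hz
    exact hπ0 (algebraMap_injective' (K := K) (hz.trans (map_zero _).symm))
  refine ⟨hinj, isUnramifiedExt_iff.mpr fun W hW => ?_⟩
  haveI := isLocalHom_codRestrict hW
  haveI : IsLocalHom (AdjoinRoot.of (X ^ e - C π : A[X])) := hof.1
  have hdom' : EtRam.Dominates A (i.comp (algebraMap A L)) W :=
    ⟨fun a => by rw [← hφ]; exact hW.1 _, fun a ha => by
      rw [← hφ]; exact hW.2 _ (map_nonunit (AdjoinRoot.of _) a ha)⟩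
  have hV := dominates_comap i hdom'
  haveI := dvr_of_dominates (K := K) _ hV
  obtain ⟨m, hm, ⟨k, rfl⟩, hram, hm'⟩ := hdiv _ hV
  have hk : 0 < k := Nat.pos_of_mul_pos_left he
  obtain ⟨hWdvr, hr⟩ := abhyankar hπ (algebraMap A L) i W hV hram hm hk hm'
    (φ (AdjoinRoot.root _)) (by rw [mul_comm k m]; exact hz) hgen
  haveI := hWdvr
  have hcomp : (i.comp (algebraMap A L)).codRestrict W (dominates_of_comap i hV).1 =
      (φ.codRestrict W hW.1).comp (AdjoinRoot.of _) :=
    RingHom.ext fun a => Subtype.ext (RingHom.congr_fun hφ a).symm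
  rw [hcomp] at hr
  have hmapne : (maximalIdeal A).map (AdjoinRoot.of (X ^ (m * k) - C π : A[X])) ≠ ⊥ := by
    rw [hof.2.2, hmax, Ideal.span_singleton_pow, Ne, Ideal.span_singleton_eq_bot, root_pow]
    exact fun h0 => hπ0 (AdjoinRoot.of.injective_of_degree_ne_zero (by
      rw [degree_X_pow_sub_C he]
      exact_mod_cast he.ne') (h0.trans (map_zero _).symm))
  obtain ⟨a, b, -, hab, hf, hg⟩ := RamHom.of_comp hr hmapne fun x y h => hinj (congrArg Subtype.val h)
  obtain rfl : a = m * k := pow_maximalIdeal_inj (hf.2.2.symm.trans hof.2.2)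
  obtain rfl : b = 1 := by
    refine Nat.eq_of_mul_eq_mul_right he ?_
    rw [one_mul, ← hab, mul_comm k m]
  exact hg

include K in
/-- The field in Abhyankar's lemma. -/
theorem exists_root_field {π : A} (hπ : maximalIdeal A = Ideal.span {π}) {e : ℕ} (he : 0 < e)
    (he' : (e : ResidueField A) ≠ 0)
    (hdiv : ∀ (V : ValuationSubring L) (hV : EtRam.Dominates A (algebraMap A L) V),
      ∃ m, 0 < m ∧ m ∣ e ∧ RamHom ((algebraMap A L).codRestrict V hV.1) m ∧
        (m : ResidueField A) ≠ 0) :
    ∃ (L' : Type u) (_ : Field L') (_ : Algebra K L')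
      (φ : AdjoinRoot (X ^ e - C π : A[X]) →+* L') (σ : L →ₐ[K] L'),
      Subfield.closure (Set.range σ ∪ {φ (AdjoinRoot.root _)}) = ⊤ ∧
      FiniteDimensional K L' ∧ Algebra.IsSeparable K L' ∧
      φ.comp (AdjoinRoot.of _) = (algebraMap K L').comp (algebraMap A K) ∧
      Function.Injective φ ∧
      ∀ [IsLocalRing (AdjoinRoot (X ^ e - C π : A[X]))],
        EtRam.IsUnramifiedExt (AdjoinRoot (X ^ e - C π : A[X])) φ := by
  let Ω := AlgebraicClosure L
  have heA : IsUnit (e : A) :=
    isUnit_of_map_unit (residue A) _ (by rw [map_natCast]; exact he'.isUnit)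
  have heL : (e : L) ≠ 0 := fun h0 => (heA.map (algebraMap A L)).ne_zero (by rwa [map_natCast])
  have hπ0 : π ≠ 0 := fun h0 => IsDiscreteValuationRing.not_a_field A (by
    rw [hπ, h0, Ideal.span_singleton_eq_bot])
  have hπL : algebraMap A L π ≠ 0 := fun h0 =>
    hπ0 (algebraMap_injective' (K := K) (h0.trans (map_zero _).symm))
  obtain ⟨z, hz⟩ := IsAlgClosed.exists_pow_nat_eq (algebraMap L Ω (algebraMap A L π)) he
  have haev : aeval z (X ^ e - C (algebraMap A L π) : L[X]) = 0 := by
    simp [hz]
  have hint : IsIntegral L z := ⟨_, monic_X_pow_sub_C _ he.ne', haev⟩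
  have hzsep : IsSeparable L z :=
    (Polynomial.separable_X_pow_sub_C _ heL hπL).of_dvd (minpoly.dvd L z haev)
  let M := IntermediateField.adjoin L ({z} : Set Ω)
  haveI : FiniteDimensional L M := IntermediateField.adjoin.finiteDimensional hint
  haveI : Algebra.IsSeparable L M :=
    (IntermediateField.isSeparable_adjoin_simple_iff_isSeparable L Ω).mpr hzsep
  let z' : M := ⟨z, IntermediateField.mem_adjoin_simple_self L z⟩
  let φ : AdjoinRoot (X ^ e - C π : A[X]) →+* M :=
    AdjoinRoot.lift ((algebraMap L M).comp (algebraMap A L)) z' (by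
      simp only [eval₂_sub, eval₂_X_pow, eval₂_C]
      exact sub_eq_zero.mpr (Subtype.ext hz))
  have hφ : φ.comp (AdjoinRoot.of _) = (algebraMap L M).comp (algebraMap A L) :=
    RingHom.ext fun a => by simp only [φ, RingHom.comp_apply, AdjoinRoot.lift_of]
  have hgen : Subfield.closure (Set.range (algebraMap L M) ∪ {φ (AdjoinRoot.root _)}) = ⊤ := by
    rw [show φ (AdjoinRoot.root _) = z' from AdjoinRoot.lift_root _]
    refine top_le_iff.mp fun x _ => ?_
    let N := Subfield.toIntermediateField (K := L)
      (Subfield.closure (Set.range (algebraMap L M) ∪ {z'}))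
      fun l => Subfield.subset_closure (Or.inl ⟨l, rfl⟩)
    have hle : IntermediateField.adjoin L ({z} : Set Ω) ≤ N.map M.val := by
      rw [IntermediateField.adjoin_simple_le_iff]
      exact ⟨z', Subfield.subset_closure (Or.inr rfl), rfl⟩
    obtain ⟨y, hy, hyx⟩ := hle x.2
    rwa [← show y = x from Subtype.ext hyx]
  obtain ⟨hdom, hdvr, -, -⟩ := eisenstein_root hπ he
  refine ⟨M, inferInstance, inferInstance, φ, IsScalarTower.toAlgHom K L M,
    hgen, FiniteDimensional.trans K L M, Algebra.IsSeparable.trans K L M, ?_, ?_, ?_⟩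
  · rw [hφ, IsScalarTower.algebraMap_eq A K L, IsScalarTower.algebraMap_eq K L M,
      RingHom.comp_assoc]
  · exact (unramified_of_root (K := K) (algebraMap L M) hπ he hdiv φ hφ hgen).1
  · intro _
    exact (unramified_of_root (K := K) (algebraMap L M) hπ he hdiv φ hφ hgen).2

end Tame

section BaseChange

variable {A K L' : Type u} [CommRing A] [IsDomain A] [IsDiscreteValuationRing A] [Field K]
  [Algebra A K] [IsFractionRing A K] [Field L'] [Algebra K L'] [Algebra A L'] [IsScalarTower A K L']
  [FiniteDimensional K L'] [Algebra.IsSeparable K L']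
  {A' : Type u} [CommRing A'] [IsDomain A'] [IsDiscreteValuationRing A'] [Algebra A A']
  [Module.Finite A A'] [Algebra A' L'] [IsScalarTower A A' L']

include A K in
/-- The finite unramified algebra of an unramified extension. -/
theorem exists_unramified_model (hinj : Function.Injective (algebraMap A' L'))
    (h : EtRam.IsUnramifiedExt A' (algebraMap A' L')) :
    ∃ (D : Type u) (_ : CommRing D) (_ : Algebra A' D) (ψ : D →+* L'),
      Module.Finite A' D ∧ Algebra.FormallyUnramified A' D ∧
      ψ.comp (algebraMap A' D) = algebraMap A' L' ∧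
      ∀ y : L', ∃ a b : D, ψ b ≠ 0 ∧ y * ψ b = ψ a := by
  let D := integralClosure A L'
  haveI : IsDedekindDomain D := integralClosure.isDedekindDomain A K L'
  haveI : Module.Finite A D := IsIntegralClosure.finite A K L' D
  haveI : IsFractionRing D L' := integralClosure.isFractionRing_of_finite_extension K L'
  let j : A' →+* D := (algebraMap A' L').codRestrict D.toSubring fun a =>
    (Algebra.IsIntegral.isIntegral (R := A) a).map (IsScalarTower.toAlgHom A A' L')
  letI : Algebra A' D := j.toAlgebra
  haveI : IsScalarTower A A' D := IsScalarTower.of_algebraMap_eq fun a =>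
    Subtype.ext (IsScalarTower.algebraMap_apply A A' L' a)
  haveI : Module.Finite A' D := Module.Finite.of_restrictScalars_finite A A' D
  have hψ : D.val.toRingHom.comp (algebraMap A' D) = algebraMap A' L' := RingHom.ext fun _ => rfl
  have hfrac : ∀ y : L', ∃ a b : D, D.val.toRingHom b ≠ 0 ∧
      y * D.val.toRingHom b = D.val.toRingHom a := fun y => by
    obtain ⟨a, b, hb, rfl⟩ := IsFractionRing.div_surjective (A := D) y
    have hb0 : (b : L') ≠ 0 := fun h0 => nonZeroDivisors.ne_zero hb (Subtype.ext h0)
    exact ⟨a, b, hb0, div_mul_cancel₀ (a : L') hb0⟩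
  exact ⟨D, inferInstance, inferInstance, D.val.toRingHom, inferInstance,
    formallyUnramified_of_forall D.val.toRingHom _ hψ Subtype.val_injective hinj hfrac
      (isUnramifiedExt_iff.mp h), hψ, hfrac⟩

end BaseChange

end Groth.Agent.EtRam26
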