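import Groth.Agent.EtRam26.Unr
import Groth.Agent.Sga84.TameGalois
import Groth.Agent.Sga84.PrincipalGalois
import Groth.Agent.Unr55.Rigid
import Groth.Prelude.Def_PiSp
import Mathlib.AlgebraicGeometry.ValuativeCriterion
import Mathlib.AlgebraicGeometry.Morphisms.Finite
import Mathlib.AlgebraicGeometry.Morphisms.Etale

/-! Tameness of residue field extensions of finite etale covers. -/

set_option autoImplicit false
set_option linter.style.haveILetI false

universe u

open AlgebraicGeometry CategoryTheory IsLocalRing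

namespace Groth.Agent.EtRam26

theorem isTamelyRamified_of_finite_etale {k : Type u} [Field k] {X Y : Scheme.{u}}
    (s : X ⟶ Spec (CommRingCat.of k)) [IsProper s] (f : Y ⟶ X) [IsFinite f] [Etale f] (y : Y)
    (A : ValuationSubring (X.residueField (f.base y))) [IsDiscreteValuationRing A]
    (a : Spec (CommRingCat.of A) ⟶ Spec (CommRingCat.of k))
    (ha : Spec.map (CommRingCat.ofHom A.subtype) ≫ a = X.fromSpecResidueField (f.base y) ≫ s) :
    EtRam.IsTamelyRamified A ((f.residueFieldMap y).hom.comp A.subtype) := by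
  have hEx : ValuativeCriterion.Existence s := by
    have h : UniversallyClosed s := inferInstance
    rw [UniversallyClosed.eq_valuativeCriterion] at h
    exact h.1
  let sq : ValuativeCommSq s :=
    { R := A, K := X.residueField (f.base y), i₁ := X.fromSpecResidueField (f.base y), i₂ := a,
      commSq := ⟨ha.symm⟩ }
  haveI := hEx sq
  obtain ⟨l, hl, -⟩ : ∃ l : Spec (CommRingCat.of A) ⟶ X,
      Spec.map (CommRingCat.ofHom A.subtype) ≫ l = X.fromSpecResidueField (f.base y) ∧ l ≫ s = a :=
    ⟨sq.commSq.lift, sq.commSq.fac_left, sq.commSq.fac_right⟩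
  obtain ⟨V, hV, hcl, -⟩ := exists_isAffineOpen_mem_and_subset (U := (⊤ : X.Opens))
    (x := l (closedPoint A)) trivial
  have hrange : Set.range l ⊆ Set.range hV.fromSpec := by
    rw [hV.range_fromSpec]
    rintro _ ⟨p, rfl⟩
    exact (((PrimeSpectrum.le_iff_specializes p (closedPoint A)).1
      (le_maximalIdeal p.2.ne_top)).map l.continuous).mem_open V.2 hcl
  have hx : f y ∈ V := by
    have : f y ∈ Set.range hV.fromSpec := hrange ⟨Spec.map (CommRingCat.ofHom A.subtype)
      (closedPoint (X.residueField (f.base y))), by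
        rw [← Scheme.Hom.comp_apply, hl]; exact X.fromSpecResidueField_apply _ _⟩
    rwa [hV.range_fromSpec] at this
  let l' := IsOpenImmersion.lift hV.fromSpec l hrange
  obtain ⟨jc, hjc⟩ : ∃ jc : Γ(X, V) ⟶ CommRingCat.of A, Spec.map jc = l' :=
    ⟨Spec.preimage l', Spec.map_preimage l'⟩
  have hj : jc ≫ CommRingCat.ofHom A.subtype = X.evaluation V (f y) hx := by
    apply Spec.map_injective
    rw [← cancel_mono hV.fromSpec, Spec.map_comp, hjc, Category.assoc, IsOpenImmersion.lift_fac, hl,
      Scheme.fromSpecResidueField, ← hV.fromSpecStalk_eq_fromSpecStalk hx,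
      IsAffineOpen.fromSpecStalk, ← Spec.map_comp_assoc]
    rfl
  let W := f ⁻¹ᵁ V
  have hW : IsAffineOpen W := hV.preimage f
  letI : Algebra Γ(X, V) Γ(Y, W) := (f.app V).hom.toAlgebra
  haveI : Module.Finite Γ(X, V) Γ(Y, W) := IsFinite.finite_app (f := f) V hV
  haveI : Algebra.Etale Γ(X, V) Γ(Y, W) := by
    have := HasRingHomProperty.appLE @Etale f inferInstance ⟨V, hV⟩ ⟨W, hW⟩ le_rfl
    rw [← RingHom.etale_algebraMap, RingHom.algebraMap_toAlgebra, Scheme.Hom.app_eq_appLE]
    exact this
  let g : A →+* Y.residueField y := (f.residueFieldMap y).hom.comp A.subtype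
  have hg : Function.Injective g := (f.residueFieldMap y).hom.injective.comp Subtype.val_injective
  let kD : Γ(Y, W) →+* Y.residueField y := (Y.evaluation W y hx).hom
  have hkD : kD.comp (algebraMap Γ(X, V) Γ(Y, W)) = g.comp jc.hom := by
    refine RingHom.ext fun r => ?_
    have h1 : A.subtype (jc.hom r) = X.evaluation V (f y) hx r :=
      congrArg (fun m : Γ(X, V) ⟶ X.residueField (f.base y) => m r) hj
    show Y.evaluation (f ⁻¹ᵁ V) y hx (f.app V r) = f.residueFieldMap y (A.subtype (jc.hom r))
    rw [h1]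
    exact (Scheme.evaluation_naturality_apply f y hx r).symm
  have hfrac : ∀ c : Y.residueField y, ∃ d e : Γ(Y, W), kD e ≠ 0 ∧ c * kD e = kD d := by
    intro c
    obtain ⟨t, rfl⟩ := Y.residue_surjective y c
    letI := Y.presheaf.algebra_section_stalk (U := W) ⟨y, hx⟩
    haveI := hW.isLocalization_stalk ⟨y, hx⟩
    obtain ⟨⟨d, e, he⟩, hde⟩ := IsLocalization.surj (hW.primeIdealOf ⟨y, hx⟩).asIdeal.primeCompl t
    refine ⟨d, e, fun h0 => he ?_, ?_⟩
    · exact (IsLocalization.AtPrime.to_map_mem_maximal_iff (Y.presheaf.stalk y) _ e).1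
        ((residue_eq_zero_iff _).1 h0)
    · show residue _ t * residue _ (algebraMap Γ(Y, W) (Y.presheaf.stalk y) e) = _
      rw [← map_mul, hde]
      rfl
  have key : ∀ (U : ValuationSubring (Y.residueField y)) (h : EtRam.Dominates A g U),
      IsDiscreteValuationRing U ∧ RamHom (g.codRestrict U h.1) 1 := fun U h => by
    refine ramHom_one_of_baseChange (D := Γ(Y, W)) jc.hom g kD hkD hg ∅ (by simp) ?_ U h
    refine top_le_iff.mp fun c _ => ?_
    obtain ⟨d, e, he, hde⟩ := hfrac c
    rw [show c = kD d / kD e from (eq_div_iff he).mpr hde]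
    exact div_mem (Subfield.subset_closure (Or.inr ⟨d, rfl⟩))
      (Subfield.subset_closure (Or.inr ⟨e, rfl⟩))
  rw [isTamelyRamified_iff hg fun U h => (key U h).1]
  exact fun U h => ⟨1, Nat.one_pos, (key U h).2, by rw [Nat.cast_one]; exact one_ne_zero⟩

theorem isTamelyRamified_of_isGaloisCover {k : Type u} [Field k] {X : Scheme.{u}} (Z : FEt.Cat X)
    (hZ : PiSp.IsGaloisCover Z) (hn : (Nat.card (Aut Z) : k) ≠ 0) (z : Z.left)
    (A : ValuationSubring (X.residueField (Z.hom.base z))) [IsDiscreteValuationRing A]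
    (a : Spec (CommRingCat.of A) ⟶ Spec (CommRingCat.of k)) :
    EtRam.IsTamelyRamified A ((Z.hom.residueFieldMap z).hom.comp A.subtype) := by
  have hprop := Z.prop
  haveI : IsFinite Z.hom := hprop.1
  haveI : Etale Z.hom := hprop.2
  haveI := hZ.1
  haveI : Finite (Aut Z) := Nat.finite_of_card_ne_zero fun h0 => hn (by rw [h0, Nat.cast_zero])
  let F := MorphismProperty.Over.forget (FEt.prop.{u}) ⊤ X ⋙ CategoryTheory.Over.forget X
  let act : Aut Z →* Aut Z.left := F.mapAut Z
  have hact : ∀ c, (act c).hom ≫ Z.hom = Z.hom := fun c => MorphismProperty.Over.w c.hom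
  obtain ⟨hfd, hgal, hdvd⟩ := PrincipalGalois84.isGalois_residueField Z.hom act hact
    (fun Ω _ _ t₁ t₂ ht => by
      obtain ⟨c, hc⟩ := hZ.2 Ω (t₁ ≫ Z.hom) ⟨t₁, rfl⟩ ⟨t₂, ht.symm⟩
      have hc' : t₁ ≫ (act c).hom = t₂ := congrArg Subtype.val hc
      refine ⟨c, hc', fun c' hc'' => Iso.ext (MorphismProperty.Over.Hom.ext ?_)⟩
      exact Unr55.eq_of_comp_eq Z.hom (act c').hom (act c).hom ((hact c').trans (hact c).symm) t₁
        (hc''.trans hc'.symm)) z
  letI : Algebra (X.residueField (Z.hom.base z)) (Z.left.residueField z) :=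
    (Z.hom.residueFieldMap z).hom.toAlgebra
  haveI : FiniteDimensional (X.residueField (Z.hom.base z)) (Z.left.residueField z) := hfd
  haveI : IsGalois (X.residueField (Z.hom.base z)) (Z.left.residueField z) := hgal
  refine TameGalois84.isTamelyRamified_of_isGalois (A := A) (L := Z.left.residueField z) _
    (X.residueField (Z.hom.base z)) rfl
    fun p hp hchar hpd => hn ?_
  obtain ⟨φ⟩ : Nonempty (k →+* ResidueField A) := ⟨(residue A).comp (Spec.preimage a).hom⟩
  haveI : CharP k p := (RingHom.charP_iff φ φ.injective p).mpr hchar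
  exact (CharP.cast_eq_zero_iff k p _).mpr (hpd.trans hdvd)

end Groth.Agent.EtRam26
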