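import Groth.Prelude.Def_EtRam
import Groth.Agent.Ram24.Dominated
import Mathlib.FieldTheory.Separable
import Mathlib.RingTheory.Valuation.LocalSubring

/-!
Ramification data of local homomorphisms, as a predicate on ring homomorphisms.
-/

set_option autoImplicit false
set_option linter.style.haveILetI false

universe u

open IsLocalRing

namespace Groth.Agent.EtRam26

/-- A field homomorphism with separable extension. -/
def SepHom {κ κ' : Type u} [Field κ] [Field κ'] (f : κ →+* κ') : Prop :=
  letI := f.toAlgebra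
  Algebra.IsSeparable κ κ'

theorem SepHom.comp {κ κ' κ'' : Type u} [Field κ] [Field κ'] [Field κ''] {f : κ →+* κ'}
    {g : κ' →+* κ''} (hf : SepHom f) (hg : SepHom g) : SepHom (g.comp f) := by
  letI := f.toAlgebra
  letI := g.toAlgebra
  letI : Algebra κ κ'' := (g.comp f).toAlgebra
  haveI : IsScalarTower κ κ' κ'' := IsScalarTower.of_algebraMap_eq fun _ => rfl
  haveI : Algebra.IsSeparable κ κ' := hf
  haveI : Algebra.IsSeparable κ' κ'' := hg
  exact Algebra.IsSeparable.trans κ κ' κ''

theorem SepHom.of_comp {κ κ' κ'' : Type u} [Field κ] [Field κ'] [Field κ''] {f : κ →+* κ'}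
    {g : κ' →+* κ''} (h : SepHom (g.comp f)) : SepHom f ∧ SepHom g := by
  letI := f.toAlgebra
  letI := g.toAlgebra
  letI : Algebra κ κ'' := (g.comp f).toAlgebra
  haveI : IsScalarTower κ κ' κ'' := IsScalarTower.of_algebraMap_eq fun _ => rfl
  haveI : Algebra.IsSeparable κ κ'' := h
  exact ⟨Algebra.isSeparable_tower_bot_of_isSeparable κ κ' κ'',
    Algebra.isSeparable_tower_top_of_isSeparable κ κ' κ''⟩

theorem sepHom_of_surjective {κ κ' : Type u} [Field κ] [Field κ'] {f : κ →+* κ'}
    (hf : Function.Surjective f) : SepHom f := by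
  letI := f.toAlgebra
  exact ⟨fun x => by obtain ⟨y, rfl⟩ := hf x; exact isSeparable_algebraMap y⟩

section RamHom

variable {R S T : Type u} [CommRing R] [IsLocalRing R] [CommRing S] [IsLocalRing S]
  [CommRing T] [IsLocalRing T]

/-- A local homomorphism with separable residue field extension under which the maximal ideal
generates the `e`-th power of the maximal ideal. -/
def RamHom (f : R →+* S) (e : ℕ) : Prop :=
  ∃ _ : IsLocalHom f, SepHom (ResidueField.map f) ∧ (maximalIdeal R).map f = maximalIdeal S ^ e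

theorem RamHom.comp {f : R →+* S} {g : S →+* T} {a b : ℕ} (hf : RamHom f a) (hg : RamHom g b) :
    RamHom (g.comp f) (b * a) := by
  obtain ⟨h1, hs, hm⟩ := hf
  obtain ⟨h2, hs', hm'⟩ := hg
  refine ⟨RingHom.isLocalHom_comp g f, ?_, ?_⟩
  · rw [ResidueField.map_comp f g]; exact hs.comp hs'
  · rw [← Ideal.map_map, hm, Ideal.map_pow, hm', ← pow_mul]

theorem RamHom.natCast_ne_zero {f : R →+* S} {a b : ℕ} (hf : RamHom f a)
    (ha : (a : ResidueField R) ≠ 0) (hb : (b : ResidueField S) ≠ 0) :
    ((b * a : ℕ) : ResidueField R) ≠ 0 := by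
  obtain ⟨h1, -, -⟩ := hf
  rw [Nat.cast_mul]
  refine mul_ne_zero (fun h => hb ?_) ha
  rw [← map_natCast (ResidueField.map f), h, map_zero]

theorem natCast_ne_zero_iff {f : R →+* S} [IsLocalHom f] (n : ℕ) :
    (n : ResidueField S) ≠ 0 ↔ (n : ResidueField R) ≠ 0 := by
  rw [← map_natCast (ResidueField.map f) n]
  exact map_ne_zero_iff _ (ResidueField.map f).injective

theorem ramHom_equiv (e : R ≃+* S) : RamHom (e : R →+* S) 1 := by
  haveI : IsLocalHom (e : R →+* S) := ⟨fun a ha => by simpa using ha.map e.symm⟩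
  refine ⟨inferInstance, sepHom_of_surjective fun y => ?_, ?_⟩
  · obtain ⟨y, rfl⟩ := residue_surjective y
    exact ⟨residue R (e.symm y), by
      rw [ResidueField.map_residue]; exact congrArg (residue S) (e.apply_symm_apply y)⟩
  · rw [pow_one]
    ext x
    rw [Ideal.mem_map_iff_of_surjective (e : R →+* S) e.surjective]
    refine ⟨?_, fun hx => ⟨e.symm x, ?_, e.apply_symm_apply x⟩⟩
    · rintro ⟨y, hy, rfl⟩
      exact map_nonunit (e : R →+* S) y hy
    · rw [mem_maximalIdeal, mem_nonunits_iff] at hx ⊢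
      exact fun h => hx (by simpa using h.map (e : R →+* S))

end RamHom

section DVR

variable {R S T : Type u} [CommRing R] [IsLocalRing R] [CommRing S] [IsDomain S]
  [IsDiscreteValuationRing S] [CommRing T] [IsDomain T] [IsDiscreteValuationRing T]

theorem pow_maximalIdeal_inj {a b : ℕ} (h : maximalIdeal T ^ a = maximalIdeal T ^ b) : a = b := by
  obtain ⟨π, hπ⟩ := IsDiscreteValuationRing.exists_irreducible T
  rw [(IsDiscreteValuationRing.irreducible_iff_uniformizer π).mp hπ, Ideal.span_singleton_pow,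
    Ideal.span_singleton_pow, Ideal.span_singleton_eq_span_singleton] at h
  exact le_antisymm ((pow_dvd_pow_iff hπ.ne_zero hπ.not_isUnit).mp h.dvd)
    ((pow_dvd_pow_iff hπ.ne_zero hπ.not_isUnit).mp h.symm.dvd)

theorem exists_pow_eq {J : Ideal S} (hJ : J ≠ ⊥) : ∃ a, J = maximalIdeal S ^ a := by
  obtain ⟨π, hπ⟩ := IsDiscreteValuationRing.exists_irreducible S
  obtain ⟨a, ha⟩ := IsDiscreteValuationRing.ideal_eq_span_pow_irreducible hJ hπ
  exact ⟨a, by rw [ha, (IsDiscreteValuationRing.irreducible_iff_uniformizer π).mp hπ,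
    Ideal.span_singleton_pow]⟩

/-- Cancellation in a composite. -/
theorem RamHom.of_comp {f : R →+* S} {g : S →+* T} [IsLocalHom f] [IsLocalHom g] {e : ℕ}
    (h : RamHom (g.comp f) e) (hR : (maximalIdeal R).map f ≠ ⊥) (hg : Function.Injective g) :
    ∃ a b, 0 < b ∧ e = b * a ∧ RamHom f a ∧ RamHom g b := by
  obtain ⟨h1, hs, hm⟩ := h
  rw [ResidueField.map_comp f g] at hs
  obtain ⟨a, ha⟩ := exists_pow_eq hR
  obtain ⟨b, hb⟩ := exists_pow_eq (S := T) (J := (maximalIdeal S).map g)
    ((Ideal.map_eq_bot_iff_of_injective hg).not.mpr (IsDiscreteValuationRing.not_a_field S))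
  refine ⟨a, b, Nat.pos_of_ne_zero fun h0 => ?_, ?_, ⟨inferInstance, hs.of_comp.1, ha⟩,
    ⟨inferInstance, hs.of_comp.2, hb⟩⟩
  · rw [h0, pow_zero, Ideal.one_eq_top] at hb
    exact (maximalIdeal.isMaximal T).ne_top (top_le_iff.mp (hb.ge.trans
      (Ideal.map_le_iff_le_comap.mpr fun x hx => map_nonunit g x hx)))
  · rw [← Ideal.map_map, ha, Ideal.map_pow, hb, ← pow_mul] at hm
    exact (pow_maximalIdeal_inj hm).symm

end DVR

section Dominates

variable {A : Type u} [CommRing A] [IsLocalRing A] {L : Type u} [Field L] {g : A →+* L}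
  {V : ValuationSubring L}

theorem isLocalHom_codRestrict (h : EtRam.Dominates A g V) :
    IsLocalHom (g.codRestrict V h.1) := by
  refine ((local_hom_TFAE _).out 0 2).mpr (Ideal.map_le_iff_le_comap.mpr fun a ha => ?_)
  exact (V.valuation_lt_one_iff _).mpr (h.2 a ha)

theorem sepHom_map_iff {R S : Type u} [CommRing R] [IsLocalRing R] [CommRing S] [IsLocalRing S]
    [Algebra R S] [IsLocalHom (algebraMap R S)] :
    SepHom (ResidueField.map (algebraMap R S)) ↔
      Algebra.IsSeparable (ResidueField R) (ResidueField S) := by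
  constructor
  · intro h
    exact @Algebra.IsSeparable.of_equiv_equiv (ResidueField R) (ResidueField S) (ResidueField R)
      (ResidueField S) _ _ _ _ (ResidueField.map (algebraMap R S)).toAlgebra _
      (RingEquiv.refl _) (RingEquiv.refl _)
      (RingHom.ext fun x => by obtain ⟨a, rfl⟩ := residue_surjective x; rfl) h
  · intro h
    exact @Algebra.IsSeparable.of_equiv_equiv (ResidueField R) (ResidueField S) (ResidueField R)
      (ResidueField S) _ _ _ _ _ (ResidueField.map (algebraMap R S)).toAlgebra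
      (RingEquiv.refl _) (RingEquiv.refl _)
      (RingHom.ext fun x => by obtain ⟨a, rfl⟩ := residue_surjective x; rfl) h

theorem isWeaklyUnramified_iff_ramHom (h : EtRam.Dominates A g V) :
    letI : Algebra A V := (g.codRestrict V h.1).toAlgebra
    haveI : IsLocalHom (algebraMap A V) := isLocalHom_codRestrict h
    EtRam.IsWeaklyUnramified A V ∧ Algebra.IsSeparable (ResidueField A) (ResidueField V) ↔
      RamHom (g.codRestrict V h.1) 1 := by
  letI : Algebra A V := (g.codRestrict V h.1).toAlgebra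
  haveI hloc : IsLocalHom (algebraMap A V) := isLocalHom_codRestrict h
  haveI : IsLocalHom (g.codRestrict V h.1) := hloc
  simp only [RamHom, pow_one, EtRam.IsWeaklyUnramified]
  exact ⟨fun ⟨a, b⟩ => ⟨inferInstance, sepHom_map_iff.mpr b, a⟩,
    fun ⟨_, b, a⟩ => ⟨a, sepHom_map_iff.mp b⟩⟩

theorem isUnramifiedExt_iff :
    EtRam.IsUnramifiedExt A g ↔
      ∀ (V : ValuationSubring L) (h : EtRam.Dominates A g V), RamHom (g.codRestrict V h.1) 1 := by
  refine forall_congr' fun V => forall_congr' fun h => ?_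
  constructor
  · intro H
    haveI := isLocalHom_codRestrict h
    exact (isWeaklyUnramified_iff_ramHom h).mp (@H this)
  · intro H _
    exact (isWeaklyUnramified_iff_ramHom h).mpr H

omit [IsLocalRing A] in
theorem charP_iff_natCast {κ : Type*} [Field κ] (e : ℕ) (he : 0 < e) :
    (e : κ) ≠ 0 ↔ ∀ p : ℕ, p.Prime → CharP κ p → ¬ p ∣ e := by
  constructor
  · intro h p _ hp hdvd
    exact h ((CharP.cast_eq_zero_iff κ p e).mpr hdvd)
  · intro h h0
    obtain ⟨p, hp⟩ := CharP.exists κ
    rcases CharP.char_is_prime_or_zero κ p with hprime | rfl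
    · exact h p hprime hp ((CharP.cast_eq_zero_iff κ p e).mp h0)
    · haveI := CharP.charP_to_charZero κ
      exact he.ne' (by exact_mod_cast h0)

end Dominates

section Tame

variable {A : Type u} [CommRing A] [IsDomain A] [IsDiscreteValuationRing A] {L : Type u} [Field L]

theorem ramificationIdx'_eq {V : ValuationSubring L} [IsDiscreteValuationRing V] [Algebra A V]
    {e : ℕ} (h : (maximalIdeal A).map (algebraMap A V) = maximalIdeal V ^ e) :
    Ideal.ramificationIdx' (maximalIdeal A) (maximalIdeal V) = e := by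
  refine Ideal.ramificationIdx'_spec h.le fun hle => ?_
  have := le_antisymm (h ▸ hle) (Ideal.pow_le_pow_right (Nat.le_succ e))
  exact absurd (pow_maximalIdeal_inj this) (by omega)

theorem exists_ramHom {g : A →+* L} (hg : Function.Injective g) {V : ValuationSubring L}
    [IsDiscreteValuationRing V] (h : EtRam.Dominates A g V) :
    ∃ e, 0 < e ∧ (maximalIdeal A).map (g.codRestrict V h.1) = maximalIdeal V ^ e := by
  have hinj : Function.Injective (g.codRestrict V h.1) := fun a b hab =>
    hg (congrArg Subtype.val hab)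
  obtain ⟨e, he⟩ := exists_pow_eq
    ((Ideal.map_eq_bot_iff_of_injective hinj).not.mpr (IsDiscreteValuationRing.not_a_field A))
  refine ⟨e, Nat.pos_of_ne_zero fun h0 => ?_, he⟩
  rw [h0, pow_zero, Ideal.one_eq_top] at he
  haveI := isLocalHom_codRestrict h
  exact (maximalIdeal.isMaximal V).ne_top (top_le_iff.mp (he.ge.trans
    (Ideal.map_le_iff_le_comap.mpr fun x hx => map_nonunit (g.codRestrict V h.1) x hx)))

theorem isTamelyRamified_iff {g : A →+* L} (hg : Function.Injective g)
    (hdvr : ∀ V : ValuationSubring L, EtRam.Dominates A g V → IsDiscreteValuationRing V) :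
    EtRam.IsTamelyRamified A g ↔
      ∀ (V : ValuationSubring L) (h : EtRam.Dominates A g V),
        ∃ e, 0 < e ∧ RamHom (g.codRestrict V h.1) e ∧ (e : ResidueField A) ≠ 0 := by
  refine forall_congr' fun V => forall_congr' fun h => ?_
  haveI := hdvr V h
  letI : Algebra A V := (g.codRestrict V h.1).toAlgebra
  haveI hloc : IsLocalHom (algebraMap A V) := isLocalHom_codRestrict h
  haveI : IsLocalHom (g.codRestrict V h.1) := hloc
  obtain ⟨e, he0, hmap⟩ := exists_ramHom hg h
  have hram := ramificationIdx'_eq (A := A) hmap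
  constructor
  · intro H
    obtain ⟨hsep, hp⟩ := @H hloc
    refine ⟨e, he0, ⟨inferInstance, sepHom_map_iff.mpr hsep, hmap⟩,
      (charP_iff_natCast e he0).mpr fun p hp' hc => ?_⟩
    rw [← hram]
    exact hp p hp' hc
  · rintro ⟨e', -, ⟨_, hsep, hmap'⟩, hne⟩ _
    obtain rfl := pow_maximalIdeal_inj (hmap.symm.trans hmap')
    refine ⟨sepHom_map_iff.mp hsep, fun p hp' hc => ?_⟩
    rw [hram]
    exact (charP_iff_natCast e he0).mp hne p hp' hc

end Tame

section Fields

variable {F M : Type u} [Field F] [Field M]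

theorem codRestrict_comp {A : Type u} [CommRing A] [IsLocalRing A] {g : A →+* F} (i : F →+* M)
    (W : ValuationSubring M) (h : EtRam.Dominates A g (W.comap i))
    (h' : EtRam.Dominates A (i.comp g) W) :
    (i.comp g).codRestrict W h'.1 =
      (EtRam.inclOfComap W i).comp (g.codRestrict (W.comap i) h.1) :=
  RingHom.ext fun _ => rfl

theorem inclOfComap_injective (i : F →+* M) (W : ValuationSubring M) :
    Function.Injective (EtRam.inclOfComap W i) := fun _ _ h =>
  Subtype.ext (i.injective (congrArg Subtype.val h :))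

theorem dominates_comap {A : Type u} [CommRing A] [IsLocalRing A] {g : A →+* F} (i : F →+* M)
    {W : ValuationSubring M} (h : EtRam.Dominates A (i.comp g) W) :
    EtRam.Dominates A g (W.comap i) := by
  refine ⟨h.1, fun a ha => ?_⟩
  let x : W.comap i := ⟨g a, h.1 a⟩
  have h2 : (EtRam.inclOfComap W i x) ∈ maximalIdeal W := (W.valuation_lt_one_iff _).mpr (h.2 a ha)
  refine ((W.comap i).valuation_lt_one_iff x).mp ?_
  rw [mem_maximalIdeal, mem_nonunits_iff] at h2 ⊢
  exact fun hu => h2 (hu.map _)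

/-- Extension of a valuation subring along a field extension. -/
theorem exists_comap_eq (i : F →+* M) (V : ValuationSubring F) :
    ∃ W : ValuationSubring M, W.comap i = V := by
  let f : V →+* M := i.comp V.subtype
  obtain ⟨W, hW⟩ := (LocalSubring.range f).exists_le_valuationSubring
  refine ⟨W, SetLike.ext fun x => ⟨fun hx => ?_, fun hx => hW.1 ⟨⟨x, hx⟩, rfl⟩⟩⟩
  by_contra hxV
  have hx0 : x ≠ 0 := fun h => hxV (h ▸ V.zero_mem)
  have hinv : x⁻¹ ∈ V := (V.mem_or_inv_mem x).resolve_left hxV
  have hnu : ¬ IsUnit (⟨x⁻¹, hinv⟩ : V) := fun hu => hxV (by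
    obtain ⟨v, hv⟩ := hu
    have h1 : x⁻¹ * ((v⁻¹ : Vˣ) : V).1 = 1 := by
      rw [← show ((v : V) : F) = x⁻¹ from congrArg Subtype.val hv]
      exact congrArg Subtype.val v.mul_inv
    rw [inv_mul_eq_one₀ hx0] at h1
    exact h1 ▸ ((v⁻¹ : Vˣ) : V).2)
  obtain ⟨hle, hloc⟩ := hW
  let y : (LocalSubring.range f).toSubring := ⟨i x⁻¹, ⟨⟨x⁻¹, hinv⟩, rfl⟩⟩
  have hy : IsUnit y := hloc.1 y ⟨⟨⟨i x⁻¹, hle y.2⟩, ⟨i x, hx⟩,
    Subtype.ext (show i x⁻¹ * i x = 1 by rw [← map_mul, inv_mul_cancel₀ hx0, map_one]),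
    Subtype.ext (show i x * i x⁻¹ = 1 by rw [← map_mul, mul_inv_cancel₀ hx0, map_one])⟩, rfl⟩
  obtain ⟨⟨z, v, rfl⟩, hz⟩ := isUnit_iff_exists_inv.mp hy
  refine hnu (isUnit_iff_exists_inv.mpr ⟨v, Subtype.ext (i.injective ?_)⟩)
  show i (x⁻¹ * (v : F)) = i 1
  rw [map_mul, map_one]
  exact congrArg Subtype.val hz

theorem dominates_of_comap {A : Type u} [CommRing A] [IsLocalRing A] {g : A →+* F} (i : F →+* M)
    {W : ValuationSubring M} (h : EtRam.Dominates A g (W.comap i)) :
    EtRam.Dominates A (i.comp g) W := by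
  refine ⟨h.1, fun a ha => (W.valuation_lt_one_iff (EtRam.inclOfComap W i ⟨g a, h.1 a⟩)).mp ?_⟩
  exact map_nonunit (EtRam.inclOfComap W i) _ (((W.comap i).valuation_lt_one_iff ⟨g a, h.1 a⟩).mpr (h.2 a ha))

theorem dvr_of_dominates_finite {A K : Type u} [CommRing A] [IsDomain A] [IsDiscreteValuationRing A]
    [Field K] [Algebra A K] [IsFractionRing A K] (j : K →+* M)
    (hfin : letI := j.toAlgebra; FiniteDimensional K M) (W : ValuationSubring M)
    (h : EtRam.Dominates A (j.comp (algebraMap A K)) W) : IsDiscreteValuationRing W := by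
  letI := j.toAlgebra
  haveI : FiniteDimensional K M := hfin
  exact Ram24.dvr_of_dominates (B := A) (L := K) W h

end Fields

end Groth.Agent.EtRam26
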